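import Groth.Agent.Lib.DepthKer.Reflexive
import Groth.Agent.Lib.DepthExt20.Basic
import Groth.Agent.Lib.Depth.Reduce
import Groth.Agent.Lib.LC.TopNonzero

/-!
# Splitting a self-extension from depth along the ideal where it splits
-/

set_option autoImplicit false
set_option linter.all false
set_option maxHeartbeats 1000000

universe u

open Pointwise

namespace GrothLib.ExtSplit20

/-- If the endomorphisms are free of rank one then they are scalars. -/
theorem bijective_lsmul_of_equiv {R M : Type u} [CommRing R] [AddCommGroup M] [Module R M]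
    (e : (M →ₗ[R] M) ≃ₗ[R] R) : Function.Bijective (LinearMap.lsmul R M) := by
  let g := e.symm 1
  have hg : ∀ φ : M →ₗ[R] M, e φ • g = φ := fun φ => e.injective (by simp [g])
  have hunit : e LinearMap.id * e (g.comp g) = 1 := by
    have h1 : g = e LinearMap.id • (g.comp g) := by
      conv_lhs => rw [← LinearMap.id_comp g, ← hg LinearMap.id]
      rfl
    have h2 := congrArg e h1
    rw [map_smul, smul_eq_mul, LinearEquiv.apply_symm_apply] at h2
    exact h2.symm
  have hc : ∀ a : R, e (LinearMap.lsmul R M a) = a * e LinearMap.id := fun a => by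
    rw [show LinearMap.lsmul R M a = a • LinearMap.id from rfl, map_smul, smul_eq_mul]
  refine ⟨fun a b h => ?_, fun φ => ⟨e φ * e (g.comp g), e.injective ?_⟩⟩
  · have h' := congrArg (fun z => e z * e (g.comp g)) h
    simp only [hc, mul_assoc, hunit, mul_one] at h'
    exact h'
  · rw [hc, mul_assoc, mul_comm (e (g.comp g)), hunit, mul_one]

section Depth

variable {B : Type u} [CommRing B] [IsNoetherianRing B]

theorem exists_regular_both (J : Ideal B) (M N : Type u) [AddCommGroup M] [Module B M] [Module.Finite B M]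
    [AddCommGroup N] [Module B N] [Module.Finite B N] (hM : 1 ≤ LocCoh.idealDepth J M)
    (hN : 1 ≤ LocCoh.idealDepth J N) : ∃ x ∈ J, IsSMulRegular M x ∧ IsSMulRegular N x := by
  obtain ⟨a, ha, ha'⟩ := GrothLib.DepthKer.exists_regular J M hM
  obtain ⟨b, hb, hb'⟩ := GrothLib.DepthKer.exists_regular J N hN
  have h : DRing.torsionSub J (M × N) = ⊥ := by
    refine eq_bot_iff.2 fun z hz => ?_
    obtain ⟨n, hn⟩ := hz
    have h1 := hn _ (Ideal.pow_mem_pow ha n)
    have h2 := hn _ (Ideal.pow_mem_pow hb n)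
    refine (Submodule.mem_bot B).2 (Prod.ext ?_ ?_)
    · exact (ha'.pow n).right_eq_zero_of_smul (congrArg Prod.fst h1)
    · exact (hb'.pow n).right_eq_zero_of_smul (congrArg Prod.snd h2)
  obtain ⟨x, hx, hreg⟩ := GrothLib.LC.exists_mem_isSMulRegular h
  refine ⟨x, hx, fun u v huv => ?_, fun u v huv => ?_⟩
  · exact congrArg Prod.fst (hreg (a₁ := (u, (0 : N))) (a₂ := (v, 0)) (Prod.ext huv rfl))
  · exact congrArg Prod.snd (hreg (a₁ := ((0 : M), u)) (a₂ := ((0 : M), v)) (Prod.ext rfl huv))

variable {M E : Type u} [AddCommGroup M] [Module B M] [AddCommGroup E] [Module B E] (i : M →ₗ[B] E) (π : E →ₗ[B] M)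

/-- The ideal of elements over which the extension has a section. -/
def splitIdeal : Ideal B where
  carrier := {b | ∃ s : M →ₗ[B] E, ∀ m, π (s m) = b • m}
  zero_mem' := ⟨0, fun m => by simp⟩
  add_mem' := fun {a b} ⟨s, hs⟩ ⟨t, ht⟩ => ⟨s + t, fun m => by simp [hs, ht, add_smul]⟩
  smul_mem' := fun c {a} ⟨s, hs⟩ => ⟨c • s, fun m => by simp [hs, mul_smul]⟩

theorem mem_splitIdeal {b : B} : b ∈ splitIdeal π ↔ ∃ s : M →ₗ[B] E, ∀ m, π (s m) = b • m := Iff.rfl

/-- **A self-extension of a module with scalar endomorphisms splits**, given depth along the locus where it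
does not: two for the module and three for the ring. -/
theorem exists_section_of_depth [Module.Finite B M] (hi : Function.Injective i) (hex : Function.Exact i π)
    (hπ : Function.Surjective π) (hEnd : Function.Bijective (LinearMap.lsmul B M))
    (hB : (3 : ℕ∞) ≤ LocCoh.idealDepth (splitIdeal π) B) (hM : (2 : ℕ∞) ≤ LocCoh.idealDepth (splitIdeal π) M) :
    ∃ s : M →ₗ[B] E, ∀ m, π (s m) = m := by
  classical
  let J := splitIdeal π
  obtain ⟨x, hx, hxM, hxB⟩ := exists_regular_both J M B (le_trans (by norm_num) hM) (le_trans (by norm_num) hB)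
  have hM1 : (1 : ℕ∞) ≤ LocCoh.idealDepth J (QuotSMulTop x M) := by
    rw [← ENat.add_le_add_iff_right ENat.one_ne_top,
      GrothLib.Depth.idealDepth_quotSMulTop_add_one J hx hxM]
    exact le_trans (by norm_num) hM
  have hB1 : (2 : ℕ∞) ≤ LocCoh.idealDepth J (QuotSMulTop x B) := by
    rw [← ENat.add_le_add_iff_right ENat.one_ne_top,
      GrothLib.Depth.idealDepth_quotSMulTop_add_one J hx hxB]
    exact le_trans (by norm_num) hB
  obtain ⟨y, hy, hyM, hyB⟩ := exists_regular_both J (QuotSMulTop x M) (QuotSMulTop x B) hM1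
    (le_trans (by norm_num) hB1)
  obtain ⟨z, hz, hzB⟩ := GrothLib.DepthKer.exists_regular J (QuotSMulTop y (QuotSMulTop x B)) (by
    rw [← ENat.add_le_add_iff_right ENat.one_ne_top,
      GrothLib.Depth.idealDepth_quotSMulTop_add_one J hy hyB]
    exact le_trans (by norm_num) hB1)
  obtain ⟨sx, hsx⟩ := (mem_splitIdeal π).1 hx
  obtain ⟨sy, hsy⟩ := (mem_splitIdeal π).1 hy
  obtain ⟨sz, hsz⟩ := (mem_splitIdeal π).1 hz
  have hlift : ∀ φ : M →ₗ[B] E, (∀ m, π (φ m) = 0) → ∃ c : B, ∀ m, φ m = c • i m := fun φ hφ => by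
    let h := (LinearEquiv.ofInjective i hi).symm.toLinearMap ∘ₗ
      φ.codRestrict (LinearMap.range i) (fun m => (hex _).1 (hφ m))
    obtain ⟨c, hc⟩ := hEnd.2 h
    refine ⟨c, fun m => ?_⟩
    rw [← map_smul, show c • m = h m from LinearMap.congr_fun hc m]
    exact (congrArg Subtype.val ((LinearEquiv.ofInjective i hi).apply_symm_apply ⟨φ m, _⟩)).symm
  obtain ⟨cy, hcy⟩ := hlift (y • sx - x • sy) fun m => by simp [hsx, hsy, smul_comm x y]
  obtain ⟨cz, hcz⟩ := hlift (z • sx - x • sz) fun m => by simp [hsx, hsz, smul_comm x z]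
  obtain ⟨a, ha⟩ := hlift (z • sy - y • sz) fun m => by simp [hsy, hsz, smul_comm y z]
  have hrel : z * cy - y * cz + x * a = 0 := by
    refine hEnd.1 ?_
    rw [map_zero]
    refine LinearMap.ext fun m => hi ?_
    rw [LinearMap.lsmul_apply, map_smul, LinearMap.zero_apply, map_zero]
    have e1 := hcy m
    have e2 := hcz m
    have e3 := ha m
    simp only [LinearMap.sub_apply, LinearMap.smul_apply] at e1 e2 e3
    rw [add_smul, sub_smul, mul_smul, mul_smul, mul_smul, ← e1, ← e2, ← e3]
    module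
  have hcy' : ∃ p q : B, cy = x * p + y * q := by
    have h0 : z • (Submodule.Quotient.mk (Submodule.Quotient.mk cy) : QuotSMulTop y (QuotSMulTop x B)) = 0 := by
      rw [← Submodule.Quotient.mk_smul, Submodule.Quotient.mk_eq_zero, Submodule.mem_smul_pointwise_iff_exists]
      refine ⟨Submodule.Quotient.mk cz, trivial, ?_⟩
      rw [← Submodule.Quotient.mk_smul, ← Submodule.Quotient.mk_smul, Submodule.Quotient.eq,
        Submodule.mem_smul_pointwise_iff_exists]
      exact ⟨a, trivial, by simp only [smul_eq_mul]; linear_combination hrel⟩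
    have h1 := hzB.right_eq_zero_of_smul h0
    rw [Submodule.Quotient.mk_eq_zero, Submodule.mem_smul_pointwise_iff_exists] at h1
    obtain ⟨q', -, hq⟩ := h1
    obtain ⟨q, rfl⟩ := Submodule.Quotient.mk_surjective _ q'
    rw [← Submodule.Quotient.mk_smul, Submodule.Quotient.eq, Submodule.mem_smul_pointwise_iff_exists] at hq
    obtain ⟨p, -, hp⟩ := hq
    refine ⟨-p, q, ?_⟩
    simp only [smul_eq_mul] at hp
    linear_combination hp
  obtain ⟨p, q, hpq⟩ := hcy'
  let ψ : M →ₗ[B] E := sx - q • i
  have hψπ : ∀ m, π (ψ m) = x • m := fun m => by simp [ψ, hsx, hex.apply_apply_eq_zero]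
  have hψy : ∀ m, y • ψ m = x • (sy m + p • i m) := fun m => by
    have e1 := hcy m
    simp only [LinearMap.sub_apply, LinearMap.smul_apply] at e1
    have : y • sx m = x • sy m + cy • i m := by rw [← e1]; abel
    show y • (sx m - q • i m) = _
    rw [smul_sub, this, hpq]
    module
  have hxE : ∀ e : E, x • e = 0 → e = 0 := fun e he => by
    have h1 : π e = 0 := hxM.right_eq_zero_of_smul (by rw [← map_smul, he, map_zero])
    obtain ⟨m, rfl⟩ := (hex e).1 h1
    rw [← map_smul, map_eq_zero_iff _ hi] at he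
    rw [hxM.right_eq_zero_of_smul he, map_zero]
  have hdiv : ∀ m, ∃ e : E, x • e = ψ m := fun m => by
    obtain ⟨e', he'⟩ := hπ m
    obtain ⟨μ, hμ⟩ := (hex (ψ m - x • e')).1 (by rw [map_sub, map_smul, hψπ, he', sub_self])
    let w := sy m + p • i m - y • e'
    have hw : x • w = i (y • μ) := by
      rw [map_smul, hμ, smul_sub y, hψy]
      simp only [w]
      module
    obtain ⟨ν, hν⟩ := (hex w).1 (hxM.right_eq_zero_of_smul (by rw [← map_smul, hw, hex.apply_apply_eq_zero]))
    rw [← hν, ← map_smul] at hw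
    have h2 : (Submodule.Quotient.mk μ : QuotSMulTop x M) = 0 := hyM.right_eq_zero_of_smul (by
      rw [← Submodule.Quotient.mk_smul, Submodule.Quotient.mk_eq_zero, Submodule.mem_smul_pointwise_iff_exists]
      exact ⟨ν, trivial, hi hw⟩)
    rw [Submodule.Quotient.mk_eq_zero, Submodule.mem_smul_pointwise_iff_exists] at h2
    obtain ⟨l, -, hl⟩ := h2
    refine ⟨e' + i l, ?_⟩
    rw [smul_add, ← map_smul i, hl, hμ]
    abel
  choose σ hσ using hdiv
  have hxinj : ∀ e e' : E, x • e = x • e' → e = e' := fun e e' h =>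
    sub_eq_zero.1 (hxE _ (by rw [smul_sub, h, sub_self]))
  refine ⟨{ toFun := σ
            map_add' := fun m m' => hxinj _ _ (by rw [smul_add, hσ, hσ, hσ, map_add])
            map_smul' := fun c m => hxinj _ _ (by
              rw [RingHom.id_apply, smul_comm, hσ, hσ, map_smul]) }, fun m => ?_⟩
  exact hxM (by show x • π (σ m) = x • m; rw [← map_smul, hσ, hψπ])

/-- A section after localising gives an element of the splitting ideal outside the prime. -/
theorem exists_notMem_splitIdeal [Module.Finite B M] (S : Submonoid B) {M' E' : Type u} [AddCommGroup M'] [Module B M']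
    [AddCommGroup E'] [Module B E'] (gM : M →ₗ[B] M') (gE : E →ₗ[B] E') [IsLocalizedModule S gM]
    [IsLocalizedModule S gE] (π' : E' →ₗ[B] M') (hcomm : ∀ e, π' (gE e) = gM (π e)) (σ : M →ₗ[B] E')
    (hσ : ∀ m, π' (σ m) = gM m) : ∃ t ∈ S, t ∈ splitIdeal π := by
  haveI : Module.FinitePresentation B M := Module.finitePresentation_of_finite B M
  obtain ⟨h, t, ht⟩ := Module.FinitePresentation.exists_lift_of_isLocalizedModule S gE σ
  have heq : gM ∘ₗ (π ∘ₗ h) = gM ∘ₗ ((t : B) • LinearMap.id) := LinearMap.ext fun m => by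
    show gM (π (h m)) = gM ((t : B) • m)
    have h1 : gE (h m) = (t : B) • σ m := LinearMap.congr_fun ht m
    rw [← hcomm, h1, map_smul, hσ, map_smul]
  obtain ⟨s, hs⟩ := Module.Finite.exists_smul_of_comp_eq_of_isLocalizedModule (S := S) (f := gM) _ _ heq
  refine ⟨s * t, S.mul_mem s.2 t.2, (mem_splitIdeal π).2 ⟨(s : B) • h, fun m => ?_⟩⟩
  have h2 : (s : B) • π (h m) = (s : B) • (t : B) • m := LinearMap.congr_fun hs m
  rw [LinearMap.smul_apply, map_smul, h2, smul_smul]

end Depth

end GrothLib.ExtSplit20
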