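import Groth.Agent.Lib.ExtSplit20.Exchange
import Mathlib.Algebra.Module.FinitePresentation

/-!
# Vanishing of the first Ext, elementwise
-/

set_option autoImplicit false
set_option linter.all false
set_option backward.isDefEq.respectTransparency false
set_option maxHeartbeats 1600000

universe u

open CategoryTheory Function

namespace GrothLib.ExtSplit20

/-- Every map into `N` of the kernel of a surjection onto `M` extends. -/
def ExtVanish (R : Type u) [CommRing R] (M N : Type u) [AddCommGroup M] [Module R M] [AddCommGroup N] [Module R N] :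
    Prop :=
  ∀ (P K : Type u) (_ : AddCommGroup P) (_ : Module R P) (_ : AddCommGroup K) (_ : Module R K)
    (ι : K →ₗ[R] P) (π : P →ₗ[R] M), Injective ι → Surjective π → Exact ι π →
    ∀ β : K →ₗ[R] N, ∃ α : P →ₗ[R] N, ∀ x, α (ι x) = β x

theorem extVanish_of_ext {R : Type u} [CommRing R] {M N : Type u} [AddCommGroup M] [Module R M] [AddCommGroup N]
    [Module R N] (h : Subsingleton (Abelian.Ext (ModuleCat.of R M) (ModuleCat.of R N) 1)) : ExtVanish R M N := by
  intro P K _ _ _ _ ι π hι hπ hex β
  let S : ShortComplex (ModuleCat.{u} R) := ShortComplex.mk (ModuleCat.ofHom ι) (ModuleCat.ofHom π)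
    (ModuleCat.hom_ext (LinearMap.ext fun x => hex.apply_apply_eq_zero x))
  have hS : S.ShortExact := ShortComplex.ShortExact.mk' ((ShortComplex.moduleCat_exact_iff _).2 fun y hy => (hex y).1 hy)
    ((ModuleCat.mono_iff_injective _).2 hι) ((ModuleCat.epi_iff_surjective _).2 hπ)
  obtain ⟨x, hx⟩ := Abelian.Ext.contravariant_sequence_exact₁ hS (ModuleCat.of R N)
    (Abelian.Ext.mk₀ (ModuleCat.ofHom β)) (add_zero 1) (h.elim _ _)
  obtain ⟨α, rfl⟩ := (Abelian.Ext.mk₀_bijective _ _).2 x
  rw [Abelian.Ext.mk₀_comp_mk₀] at hx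
  exact ⟨α.hom, fun z => LinearMap.congr_fun (congrArg ModuleCat.Hom.hom ((Abelian.Ext.mk₀_bijective _ _).1 hx)) z⟩

theorem ExtVanish.congr {R R' M M' N N' : Type u} [CommRing R] [CommRing R'] [AddCommGroup M] [Module R M]
    [AddCommGroup M'] [Module R' M'] [AddCommGroup N] [Module R N] [AddCommGroup N'] [Module R' N'] (σ : R ≃+* R')
    (a : M ≃+ M') (ha : ∀ (r : R) (x : M), a (r • x) = σ r • a x) (b : N ≃+ N')
    (hb : ∀ (r : R) (x : N), b (r • x) = σ r • b x) (h : ExtVanish R M N) : ExtVanish R' M' N' := by
  intro P K _ _ _ _ ι π hι hπ hex β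
  letI : Module R P := Module.compHom P σ.toRingHom
  letI : Module R K := Module.compHom K σ.toRingHom
  let ι' : K →ₗ[R] P := { toFun := ι, map_add' := map_add ι, map_smul' := fun r x => map_smul ι (σ r) x }
  let π' : P →ₗ[R] M :=
    { toFun := fun x => a.symm (π x)
      map_add' := fun x y => by simp
      map_smul' := fun r x => a.injective (by
        show a (a.symm (π (σ r • x))) = a (r • a.symm (π x))
        rw [ha, a.apply_symm_apply, a.apply_symm_apply, map_smul]) }
  let β' : K →ₗ[R] N :=
    { toFun := fun x => b.symm (β x)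
      map_add' := fun x y => by simp
      map_smul' := fun r x => b.injective (by
        show b (b.symm (β (σ r • x))) = b (r • b.symm (β x))
        rw [hb, b.apply_symm_apply, b.apply_symm_apply, map_smul]) }
  obtain ⟨α, hα⟩ := h P K _ _ _ _ ι' π' hι (a.symm.surjective.comp hπ)
    (fun x => by rw [show π' x = a.symm (π x) from rfl, a.symm.map_eq_zero_iff]; exact hex x) β'
  refine ⟨{ toFun := fun x => b (α x)
            map_add' := fun x y => by simp
            map_smul' := fun r x => by
              obtain ⟨r, rfl⟩ := σ.surjective r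
              show b (α (r • x)) = σ r • b (α x)
              rw [map_smul, hb] }, fun x => ?_⟩
  show b (α (ι' x)) = β x
  rw [hα]
  exact b.apply_symm_apply _

theorem ExtVanish.localized {B : Type u} [CommRing B] [IsNoetherianRing B] {M N : Type u} [AddCommGroup M]
    [Module B M] [Module.Finite B M] [AddCommGroup N] [Module B N] (S : Submonoid B) {T : Type u} [CommRing T]
    [Algebra B T] [IsLocalization S T] {M' N' : Type u} [AddCommGroup M'] [Module B M'] [Module T M']
    [IsScalarTower B T M'] [AddCommGroup N'] [Module B N'] [Module T N'] [IsScalarTower B T N'] (gM : M →ₗ[B] M')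
    [IsLocalizedModule S gM] (gN : N →ₗ[B] N') [IsLocalizedModule S gN] (h : ExtVanish B M N) :
    ExtVanish T M' N' := by
  classical
  intro P K _ _ _ _ ι π hι hπ hex β
  letI : Module B P := Module.compHom P (algebraMap B T)
  letI : Module B K := Module.compHom K (algebraMap B T)
  haveI : IsScalarTower B T P := IsScalarTower.of_algebraMap_smul fun _ _ => rfl
  haveI : IsScalarTower B T K := IsScalarTower.of_algebraMap_smul fun _ _ => rfl
  obtain ⟨n, p, hp⟩ := Module.Finite.exists_fin' B M
  let K₀ := LinearMap.ker p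
  haveI : Module.FinitePresentation B K₀ := Module.finitePresentation_of_finite B K₀
  choose u hu using fun i : Fin n => hπ (gM (p (Pi.single i 1)))
  let U : (Fin n → T) →ₗ[T] P := Fintype.linearCombination T u
  let up : (Fin n → B) →ₗ[B] (Fin n → T) := (Algebra.linearMap B T).compLeft (Fin n)
  have hUup : ∀ z, π (U (up z)) = gM (p z) := fun z => by
    have : π.restrictScalars B ∘ₗ U.restrictScalars B ∘ₗ up = gM ∘ₗ p := LinearMap.pi_ext' fun i => LinearMap.ext_ring (by
      show π (U (up (Pi.single i 1))) = gM (p (Pi.single i 1))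
      rw [show up (Pi.single i 1) = Pi.single i 1 from funext fun j => by
        show algebraMap B T ((Pi.single i (1 : B) : Fin n → B) j) = _
        by_cases hj : j = i <;> simp [hj]]
      rw [Fintype.linearCombination_apply_single, one_smul, hu])
    exact LinearMap.congr_fun this z
  have hmem : ∀ z : K₀, π (U (up z)) = 0 := fun z => by rw [hUup, show p z = 0 from z.2, map_zero]
  choose w hw using fun z : K₀ => (hex _).1 (hmem z)
  let wl : K₀ →ₗ[B] K :=
    { toFun := w
      map_add' := fun x y => hι (by simp [hw, map_add])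
      map_smul' := fun r x => hι (by
        rw [LinearMap.map_smul_of_tower, hw, hw]
        simp only [RingHom.id_apply, SetLike.val_smul, map_smul]
        exact LinearMap.map_smul_of_tower U r _) }
  obtain ⟨h₀, s, hs⟩ := Module.FinitePresentation.exists_lift_of_isLocalizedModule S gN ((β.restrictScalars B) ∘ₗ wl)
  obtain ⟨α₀, hα₀⟩ := h (Fin n → B) K₀ _ _ _ _ K₀.subtype p K₀.injective_subtype hp (LinearMap.exact_subtype_ker_map p) h₀
  obtain ⟨si, hsi⟩ := (IsLocalization.map_units T s).exists_left_inv
  let α' : (Fin n → T) →ₗ[T] N' := Fintype.linearCombination T fun i => si • gN (α₀ (Pi.single i 1))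
  have hα' : ∀ z, α' (up z) = si • gN (α₀ z) := fun z => by
    have : α'.restrictScalars B ∘ₗ up = (LinearMap.lsmul T N' si).restrictScalars B ∘ₗ gN ∘ₗ α₀ :=
      LinearMap.pi_ext' fun i => LinearMap.ext_ring (by
        show α' (up (Pi.single i 1)) = si • gN (α₀ (Pi.single i 1))
        rw [show up (Pi.single i 1) = Pi.single i 1 from funext fun j => by
          show algebraMap B T ((Pi.single i (1 : B) : Fin n → B) j) = _
          by_cases hj : j = i <;> simp [hj]]
        rw [Fintype.linearCombination_apply_single, one_smul])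
    exact LinearMap.congr_fun this z
  have hkey : ∀ z : K₀, α' (up z) = β (w z) := fun z => by
    rw [hα', show α₀ z = h₀ z from hα₀ z,
      show gN (h₀ z) = (s : B) • β (w z) from LinearMap.congr_fun hs z, ← algebraMap_smul T (s : B), smul_smul, hsi, one_smul]
  let Φ : (Fin n → T) × K →ₗ[T] P := U.coprod ι
  let Ψ : (Fin n → T) × K →ₗ[T] N' := α'.coprod β
  have hΦ : Surjective Φ := by
    intro x
    obtain ⟨⟨m, c⟩, hm⟩ := IsLocalizedModule.surj S gM (π x)
    obtain ⟨z, rfl⟩ := hp m
    obtain ⟨ci, hci⟩ := (IsLocalization.map_units T c).exists_left_inv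
    have h1 : π (U (ci • up z)) = π x := by
      have hm' : (c : B) • π x = gM (p z) := hm
      rw [map_smul, map_smul, hUup, ← hm', ← algebraMap_smul T (c : B), smul_smul, hci, one_smul]
    obtain ⟨k, hk⟩ := (hex (x - U (ci • up z))).1 (by rw [map_sub, h1, sub_self])
    exact ⟨(ci • up z, k), by show U (ci • up z) + ι k = x; rw [hk]; abel⟩
  have hker : LinearMap.ker Φ ≤ LinearMap.ker Ψ := by
    rintro ⟨v, k⟩ hvk
    have hvk' : U v + ι k = 0 := hvk
    show α' v + β k = 0
    -- clear denominators
    obtain ⟨c, hc⟩ := IsLocalization.exist_integer_multiples_of_finite S v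
    choose z₀ hz₀ using hc
    have hup : up z₀ = (c : B) • v := funext fun i => hz₀ i
    have h1 : gM (p z₀) = 0 := by
      rw [← hUup, hup]
      have : π (U ((c : B) • v)) = (c : B) • π (U v) := by
        rw [← algebraMap_smul T (c : B), map_smul, map_smul, algebraMap_smul]
      rw [this, eq_neg_of_add_eq_zero_left hvk', map_neg, hex.apply_apply_eq_zero, neg_zero, smul_zero]
    obtain ⟨t, ht⟩ := (IsLocalizedModule.eq_zero_iff S gM).1 h1
    let z : K₀ := ⟨(t : B) • z₀, by show p ((t : B) • z₀) = 0; rw [map_smul]; exact ht⟩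
    have hzv : up (z : Fin n → B) = algebraMap B T (t * c : S) • v := by
      show up ((t : B) • z₀) = _
      rw [map_smul, hup, smul_smul, ← algebraMap_smul T ((t : B) * c), Submonoid.coe_mul]
    have h2 := hkey z
    rw [hzv, map_smul] at h2
    have h3 : w z = -(algebraMap B T (t * c : S) • k) := hι (by
      rw [hw, hzv, map_smul, eq_neg_of_add_eq_zero_left hvk', map_neg, map_smul, smul_neg])
    rw [h3, map_neg, map_smul, ← sub_eq_zero, sub_neg_eq_add, ← smul_add] at h2
    exact (IsLocalization.map_units T (t * c)).smul_eq_zero.1 h2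
  let E := Φ.quotKerEquivOfSurjective hΦ
  refine ⟨(LinearMap.ker Φ).liftQ Ψ hker ∘ₗ E.symm.toLinearMap, fun x => ?_⟩
  show (LinearMap.ker Φ).liftQ Ψ hker (E.symm (ι x)) = β x
  rw [show E.symm (ι x) = Submodule.Quotient.mk ((0 : Fin n → T), x) from E.injective (by
    rw [LinearEquiv.apply_symm_apply]
    show ι x = U 0 + ι x
    rw [map_zero, zero_add]), Submodule.liftQ_apply]
  show α' 0 + β x = β x
  rw [map_zero, zero_add]

end GrothLib.ExtSplit20
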