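import Groth.Agent.Lib.ExtSplit20.Main
import Groth.Agent.Lib.ExtSplit20.ExtVanish
import Groth.Agent.Lib.DualFree20.IndexLocal
import Groth.Agent.Lib.DualFree20.CMFibres
import Groth.Agent.Lib.CMMor6.Chart
import Groth.Agent.Lib.ArtCrit20.S3Fibre
import Groth.Agent.Lib.LM28.HomIso

/-!
# The relative canonical sheaf over the Cohen–Macaulay locus
-/

set_option autoImplicit false
set_option linter.all false
set_option backward.isDefEq.respectTransparency false
set_option maxHeartbeats 2000000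
set_option synthInstance.maxHeartbeats 200000

universe u

open CategoryTheory CategoryTheory.Limits AlgebraicGeometry TopologicalSpace Opposite IsLocalRing
attribute [local instance] HasDerivedCategory.standard

noncomputable section

namespace GrothLib.ExtSplit20

open GrothLib.OX GrothLib.DualFree20 GrothLib.RightAdj22

/-- The stalk of an open subscheme is the stalk. -/
def openStalkHom {X : Scheme.{u}} (U : X.Opens) (y : (U : Scheme.{u})) :
    (U : Scheme.{u}).presheaf.stalk y →+* X.presheaf.stalk (U.ι y) := (U.stalkIso y).hom.hom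

/-- The stalk of the restriction to an open, semilinearly along the stalk isomorphism of the open. -/
theorem exists_restrict_stalk' {X : Scheme.{u}} (F : X.Modules) (U : X.Opens) (y : (U : Scheme.{u})) :
    ∃ φ : (F.restrict U.ι).presheaf.stalk y →+ F.presheaf.stalk (U.ι y),
      Function.Bijective φ ∧ ∀ c z, φ (c • z) = openStalkHom U y c • φ z := by
  let φ : (F.restrict U.ι).presheaf.stalk y →+ F.presheaf.stalk (U.ι y) :=
    ((Scheme.Modules.restrictStalkNatIso U.ι y).app F).hom.hom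
  have hφ : ∀ (V : (U : Scheme.{u}).Opens) (hV : y ∈ V) (t : Γ(F.restrict U.ι, V)),
      φ ((F.restrict U.ι).presheaf.germ V y hV t) =
        F.presheaf.germ (U.ι ''ᵁ V) (U.ι y) ⟨y, hV, rfl⟩ t := fun V hV t =>
    ConcreteCategory.congr_hom
      (Scheme.Modules.germ_restrictStalkNatIso_hom_app U.ι y F (U := V) hV) t
  have hψ : ∀ (V : (U : Scheme.{u}).Opens) (hV : y ∈ V) (t : Γ(U, V)),
      openStalkHom U y ((U : Scheme.{u}).presheaf.germ V y hV t) =
        X.presheaf.germ (U.ι ''ᵁ V) (U.ι y) ⟨y, hV, rfl⟩ t := fun V hV t =>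
    ConcreteCategory.congr_hom (Scheme.Opens.germ_stalkIso_hom U y hV) t
  refine ⟨φ, ConcreteCategory.bijective_of_isIso ((Scheme.Modules.restrictStalkNatIso U.ι y).app F).hom, fun c z => ?_⟩
  obtain ⟨V, hV, r, rfl⟩ := TopCat.Presheaf.exists_germ_eq (U : Scheme.{u}).presheaf c
  obtain ⟨V', hV', s, rfl⟩ := TopCat.Presheaf.exists_germ_eq (F.restrict U.ι).presheaf z
  have hW : y ∈ V ⊓ V' := ⟨hV, hV'⟩
  rw [← TopCat.Presheaf.germ_res_apply (U : Scheme.{u}).presheaf (homOfLE (inf_le_left : V ⊓ V' ≤ V)) y hW r,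
    ← TopCat.Presheaf.germ_res_apply (F.restrict U.ι).presheaf (homOfLE (inf_le_right : V ⊓ V' ≤ V')) y hW s,
    ← WeakAss.germ_smul (F := F.restrict U.ι) hW, hφ, hφ, hψ]
  erw [WeakAss.germ_smul (F := F) (V := U.ι ''ᵁ (V ⊓ V')) (x := U.ι y) ⟨y, hW, rfl⟩]
  refine congrArg₂ (· • ·) (congrArg (X.presheaf.germ (U.ι ''ᵁ (V ⊓ V')) (U.ι y) ⟨y, hW, rfl⟩) ?_) rfl
  change ((U.ι.appIso (V ⊓ V')).inv).hom _ = _
  rw [Scheme.Opens.ι_appIso]
  rfl

/-- A restricted isomorphism gives one of the stalks. -/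
theorem nonempty_stalk_of_restrict {X : Scheme.{u}} {M N : X.Modules} (V : X.Opens) (e : M.restrict V.ι ≅ N.restrict V.ι)
    (z : X) (hz : z ∈ V) : Nonempty (M.presheaf.stalk z ≃ₗ[X.presheaf.stalk z] N.presheaf.stalk z) := by
  obtain ⟨v, rfl⟩ : ∃ v : (V : Scheme.{u}), V.ι v = z := ⟨⟨z, hz⟩, rfl⟩
  obtain ⟨φ, hφ, h⟩ := exists_restrict_stalk' M V v
  obtain ⟨φ', hφ', h'⟩ := exists_restrict_stalk' N V v
  let a := (AddEquiv.ofBijective φ hφ).symm.trans ((stalkIso e v).toAddEquiv.trans (AddEquiv.ofBijective φ' hφ'))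
  refine ⟨{ a with map_smul' := fun r x => ?_ }⟩
  obtain ⟨w, rfl⟩ := hφ.2 x
  obtain ⟨c, hc⟩ := (ConcreteCategory.bijective_of_isIso (V.stalkIso v).hom).2 r
  obtain rfl : openStalkHom V v c = r := hc
  show a (openStalkHom V v c • φ w) = openStalkHom V v c • a (φ w)
  rw [← h]
  show φ' (stalkIso e v ((AddEquiv.ofBijective φ hφ).symm (AddEquiv.ofBijective φ hφ (c • w)))) =
    openStalkHom V v c • φ' (stalkIso e v ((AddEquiv.ofBijective φ hφ).symm (AddEquiv.ofBijective φ hφ w)))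
  rw [AddEquiv.symm_apply_apply, AddEquiv.symm_apply_apply, map_smul, h']

/-- Flatness over the base is seen on an open. -/
theorem flatAt_of_restrict {X S : Scheme.{u}} (f : X ⟶ S) (U : X.Opens) (M : X.Modules) (v : (U : Scheme.{u}))
    (h : FlatMod.IsFlatOverAt (U.ι ≫ f) (M.restrict U.ι) v) : FlatMod.IsFlatOverAt f M (U.ι v) := by
  obtain ⟨φ, hφ, hsl⟩ := exists_restrict_stalk' M U v
  letI := FlatMod.moduleStalkOver (U.ι ≫ f) (M.restrict U.ι) v
  letI := FlatMod.moduleStalkOver f M (U.ι v)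
  haveI : Module.Flat (S.presheaf.stalk ((U.ι ≫ f).base v)) ((M.restrict U.ι).presheaf.stalk v) := h
  letI : Module (S.presheaf.stalk ((U.ι ≫ f).base v)) (M.presheaf.stalk (U.ι v)) :=
    FlatMod.moduleStalkOver f M (U.ι v)
  have hc : ∀ r, openStalkHom U v (((U.ι ≫ f).stalkMap v) r) = (f.stalkMap (U.ι v)) r := fun r => by
    rw [Scheme.Hom.stalkMap_comp]
    show (U.stalkIso v).hom ((U.ι.stalkMap v) ((f.stalkMap (U.ι v)) r)) = _
    rw [← Scheme.Opens.stalkIso_inv]
    exact ConcreteCategory.congr_hom (U.stalkIso v).inv_hom_id _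
  let e : (M.restrict U.ι).presheaf.stalk v ≃ₗ[S.presheaf.stalk ((U.ι ≫ f).base v)] M.presheaf.stalk (U.ι v) :=
    { AddEquiv.ofBijective φ hφ with
      map_smul' := fun r z => by
        show φ (((U.ι ≫ f).stalkMap v) r • z) = (f.stalkMap (U.ι v)) r • φ z
        rw [hsl, hc] }
  have hfl := Module.Flat.of_linearEquiv e.symm
  exact hfl

variable {A : Type u} [CommRing A] [IsNoetherianRing A] {Y : Scheme.{u}} [Y.Over (Spec (CommRingCat.of A))]
  [IsProper (Y ↘ Spec (CommRingCat.of A))]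

/-- **Base change and flatness of the relative canonical sheaf over the Cohen–Macaulay locus.** -/
theorem cm_data (d : ℕ)
    (hS : RelCanon.IsSkMor (Y ↘ Spec (CommRingCat.of A)) 2) (hd : Cyc.HasRelDim (Y ↘ Spec (CommRingCat.of A)) d)
    (ω : Y.Modules) (hω : RelCanon.IsDualizingSheaf A Y d ω) (U : Y.Opens)
    (hU : ∀ y, y ∈ U ↔ MoreMor.IsCMAt (Y ↘ Spec (CommRingCat.of A)) y) :
    (∀ y ∈ U, FlatMod.IsFlatOverAt (Y ↘ Spec (CommRingCat.of A)) ω y) ∧
    ∀ (t : ↥(Spec (CommRingCat.of A))) (ωt : ((Y ↘ Spec (CommRingCat.of A)).fiber t).Modules),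
      @RelCanon.IsDualizingSheaf ((Spec (CommRingCat.of A)).residueField t) _ ((Y ↘ Spec (CommRingCat.of A)).fiber t)
        ⟨(Y ↘ Spec (CommRingCat.of A)).fiberToSpecResidueField t⟩ d ωt →
      Nonempty (((Scheme.Modules.pullback ((Y ↘ Spec (CommRingCat.of A)).fiberι t)).obj ω).restrict
        ((Y ↘ Spec (CommRingCat.of A)).fiberι t ⁻¹ᵁ U).ι ≅
        ωt.restrict ((Y ↘ Spec (CommRingCat.of A)).fiberι t ⁻¹ᵁ U).ι) := by
  let f := Y ↘ Spec (CommRingCat.of A)
  haveI : Flat f := hS.1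
  haveI : LocallyOfFiniteType f := hS.2.1
  haveI : LocallyOfFinitePresentation f := GrothLib.LocProp.locallyOfFinitePresentation_of_isLocallyNoetherian f
  haveI : IsLocallyNoetherian Y := LocallyOfFiniteType.isLocallyNoetherian f
  have hdim : ∀ x : Y, FlatMor.fibreDimAt f x = (d : WithBot ℕ∞) := fun x => by
    haveI : LocallyOfFiniteType (f.fiberToSpecResidueField (f x)) :=
      MorphismProperty.pullback_snd _ _ (inferInstance : LocallyOfFiniteType f)
    exact GrothLib.CodimExt27.localDim_eq_of_pure (k := (Spec (CommRingCat.of A)).residueField (f x))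
      (f.fiberToSpecResidueField (f x)) (hd (f x)) (f.asFiber x)
  have hd' : ∀ s, topologicalKrullDim ↥(f.fiber s) ≤ (d : WithBot ℕ∞) :=
    fun s => GrothLib.FibPd.topologicalKrullDim_le_of_components fun Z hZ => (hd s Z hZ).le
  haveI : CompactSpace Y := QuasiCompact.compactSpace_of_compactSpace f
  haveI : QuasiSeparatedSpace Y := quasiSeparatedSpace_of_quasiSeparated f
  haveI : DCoh.HasRpush f := KInj.hasRightDerivedFunctor _
  have hf : DCoh.RpushPreservesQCoh f := fun K hK =>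
    GrothLib.KSix19.BettiExact.isQCohD_of_iso' ((rpushIsoRres f).app K).symm (isQCohD_Rres f K hK)
  haveI : (DCoh.RpushQ f hf).IsLeftAdjoint := OX.isLeftAdjoint_lift_Rpush f hf
  let adj := Adjunction.ofIsLeftAdjoint (DCoh.RpushQ f hf)
  let W₀ : DCoh.DQCoh (Spec (CommRingCat.of A)) := ⟨DCoh.inD _ (Coh.structureModule _),
    KSix19.RpushAmp.isQCohD_inD _ (inferInstanceAs (Coh.structureModule (Spec (CommRingCat.of A))).IsQuasicoherent)⟩
  let K := ((DCoh.RpushQ f hf).rightAdjoint.obj W₀).obj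
  obtain ⟨u⟩ := nonempty_iso_of_isDualizingSheaf
    (isDualizingSheaf_adjoint f rfl d hd' hf adj W₀ ⟨Iso.refl _⟩) hω
  let u' : DCoh.HD K (-(d : ℤ)) ≅ ω := eqToIso (by rw [zero_sub]) ≪≫ u
  let c : DEt.Compactification f := ⟨Y, 𝟙 Y, f, inferInstance, inferInstance, Category.id_comp f⟩
  haveI : DCoh.HasRpush c.fbar := ‹DCoh.HasRpush f›
  haveI : PreservesFiniteLimits (Scheme.Modules.restrictFunctor c.j) := inferInstance
  let η₀ : ∀ i, DCoh.HD ((Dual3.shriekC c (DCoh.RpushQ f hf).rightAdjoint).obj W₀) i ≅ DCoh.HD K i := fun i =>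
    (DerivedCategory.homologyFunctor _ i).mapIso ((RightAdj22.resDIdIso Y).app K)
  refine ⟨fun y hy => ?_, fun t ωt hωt => ?_⟩
  · let g := U.ι ≫ f
    let cU : DEt.Compactification g := ⟨Y, U.ι, f, inferInstance, inferInstance, rfl⟩
    haveI : DCoh.HasRpush cU.fbar := ‹DCoh.HasRpush f›
    haveI : PreservesFiniteLimits (Scheme.Modules.restrictFunctor cU.j) := inferInstance
    haveI : Flat g := inferInstanceAs (Flat (U.ι ≫ f))
    haveI : LocallyOfFiniteType g := inferInstanceAs (LocallyOfFiniteType (U.ι ≫ f))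
    haveI : LocallyOfFinitePresentation g := GrothLib.LocProp.locallyOfFinitePresentation_of_isLocallyNoetherian g
    haveI : IsLocallyNoetherian (U : Scheme.{u}) := LocallyOfFiniteType.isLocallyNoetherian g
    haveI : AlgebraicGeometry.IsNoetherian Y := {}
    haveI : CompactSpace (U : Scheme.{u}) := isCompact_iff_compactSpace.1 (NoetherianSpace.isCompact _)
    haveI : AlgebraicGeometry.IsNoetherian (U : Scheme.{u}) := {}
    obtain ⟨-, hfl⟩ := GrothLib.ShriekBridge22.oneDeg_flat_of_cm g cU hf adj W₀ ⟨Iso.refl _⟩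
      (fun z => (GrothLib.CMMor6.isCMAt_openImmersion_comp_iff U.ι f z).2 ((hU _).1 z.2)) d
      (fun z => (GrothLib.CMMor6.fibreDimAt_comp_flat_lqf U.ι f z).trans (hdim _))
    have hfl' : FlatMod.IsFlatOver g (ω.restrict U.ι) :=
      isFlatOver_of_iso (HDResIso U.ι K _ ≪≫ (Scheme.Modules.restrictFunctor U.ι).mapIso u') hfl
    let v : (U : Scheme.{u}) := ⟨y, hy⟩
    exact flatAt_of_restrict f U ω v (hfl' v)
  · let κ := (Spec (CommRingCat.of A)).residueField t
    letI : (f.fiber t).Over (Spec (CommRingCat.of κ)) := ⟨f.fiberToSpecResidueField t⟩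
    let f' : f.fiber t ⟶ Spec (CommRingCat.of κ) := f.fiberToSpecResidueField t
    let φ : CommRingCat.of A ⟶ κ := Spec.preimage ((Spec (CommRingCat.of A)).fromSpecResidueField t)
    have hsq : IsPullback (f.fiberι t) f' f (Spec.map (CommRingCat.ofHom φ.hom)) := by
      change IsPullback (f.fiberι t) f' f (Spec.map φ)
      rw [Spec.map_preimage]
      exact IsPullback.of_hasPullback _ _
    haveI : IsProper f' := MorphismProperty.of_isPullback hsq (inferInstance : IsProper f)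
    haveI : IsProper ((f.fiber t) ↘ Spec (CommRingCat.of κ)) := (inferInstance : IsProper f')
    haveI : CompactSpace (f.fiber t) := QuasiCompact.compactSpace_of_compactSpace f'
    haveI : QuasiSeparatedSpace (f.fiber t) := quasiSeparatedSpace_of_quasiSeparated f'
    haveI : DCoh.HasRpush f' := KInj.hasRightDerivedFunctor _
    have hf' : DCoh.RpushPreservesQCoh f' := fun L hL =>
      GrothLib.KSix19.BettiExact.isQCohD_of_iso' ((rpushIsoRres f').app L).symm (isQCohD_Rres f' L hL)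
    haveI : (DCoh.RpushQ f' hf').IsLeftAdjoint := OX.isLeftAdjoint_lift_Rpush f' hf'
    let adj' := Adjunction.ofIsLeftAdjoint (DCoh.RpushQ f' hf')
    let W' : DCoh.DQCoh (Spec (CommRingCat.of κ)) := ⟨DCoh.inD _ (Coh.structureModule _),
      KSix19.RpushAmp.isQCohD_inD _
        (inferInstanceAs (Coh.structureModule (Spec (CommRingCat.of κ))).IsQuasicoherent)⟩
    let K' := ((DCoh.RpushQ f' hf').rightAdjoint.obj W').obj
    obtain ⟨v⟩ := nonempty_iso_of_isDualizingSheaf
      (isDualizingSheaf_of_iso (eqToIso (by rw [zero_sub]) : DCoh.HD K' (0 - (d : ℤ)) ≅ DCoh.HD K' (-(d : ℤ)))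
        (isDualizingSheaf_adjoint f' rfl d
          (fun s => (GrothLib.FibreBC.topologicalKrullDim_fiber hsq s).le.trans (hd' _)) hf' adj' W' ⟨Iso.refl _⟩)) hωt
    let p := f.fiberι t
    let V : (f.fiber t).Opens := p ⁻¹ᵁ U
    haveI := OX.hasLpull p
    haveI := OX.hasLpull (p ∣_ U)
    obtain ⟨eL⟩ := RightAdj20.nonempty_lpull_adjoint φ.hom hsq hf adj W₀ ⟨Iso.refl _⟩ hf' adj' W' ⟨Iso.refl _⟩
    obtain ⟨sq⟩ := RightAdj20.nonempty_resD_lpull_square p V.ι U.ι (p ∣_ U) (morphismRestrict_ι p U)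
    have hle : ((resD U.ι).obj K).IsLE (-(d : ℤ)) := (DerivedCategory.isLE_iff _ _).2 fun i hi => by
      refine IsZero.of_iso ?_ (HDResIso U.ι K i)
      refine OX.isZero_of_subsingleton_stalks _ fun z => ?_
      refine @Equiv.subsingleton _ _
        ((Scheme.Modules.restrictStalkNatIso U.ι z).app _).addCommGroupIsoToAddEquiv.toEquiv ?_
      refine not_nontrivial_iff_subsingleton.1 fun hn => (ne_of_gt hi) ?_
      exact (GrothLib.ShriekBridge22.stalk_of_isCMAt f c hf adj W₀ ⟨Iso.refl _⟩ ((hU _).1 z.2) (hdim _) i).1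
        ((nontrivial_stalk_of_iso (η₀ i) _).2 hn)
    obtain ⟨top⟩ := GrothLib.ThickDesc6.nonempty_hd_lpull_top (p ∣_ U) ((resD U.ι).obj K) (-(d : ℤ)) hle
    let eV : (DCoh.HD K' (-(d : ℤ))).restrict V.ι ≅ (Scheme.Modules.pullback (p ∣_ U)).obj (ω.restrict U.ι) :=
      (HDResIso V.ι K' _).symm ≪≫
        (DerivedCategory.homologyFunctor _ _).mapIso ((resD V.ι).mapIso eL.symm ≪≫ sq.app _) ≪≫ top ≪≫
        (Scheme.Modules.pullback (p ∣_ U)).mapIso (HDResIso U.ι K _ ≪≫ (Scheme.Modules.restrictFunctor U.ι).mapIso u')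
    obtain ⟨pr⟩ := AlmostAmple24.nonempty_pullback_restrict p U ω
    exact ⟨pr ≪≫ eV.symm ≪≫ (Scheme.Modules.restrictFunctor V.ι).mapIso v⟩

end GrothLib.ExtSplit20

end
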