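import Groth.Agent.Lib.ExtSplit20.CMBase
import Groth.Agent.Lib.DualFree20.SkBC
import Groth.Agent.Lib.CycFlat.Fibre
import Groth.Agent.Lib.DualFree20.QGorDescent

/-!
# A flat lift of the canonical sheaf of a fibre is the relative one at Cohen–Macaulay points
-/

set_option autoImplicit false
set_option linter.all false
set_option backward.isDefEq.respectTransparency false
set_option maxHeartbeats 2000000
set_option synthInstance.maxHeartbeats 200000

universe u

open CategoryTheory CategoryTheory.Limits AlgebraicGeometry TopologicalSpace Opposite IsLocalRing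
attribute [local instance] HasDerivedCategory.standard

noncomputable section

namespace GrothLib.ExtSplit20

open GrothLib.OX GrothLib.DualFree20 GrothLib.RightAdj22

variable {A : Type u} [CommRing A] [IsNoetherianRing A] {Y : Scheme.{u}} [Y.Over (Spec (CommRingCat.of A))]
  [IsProper (Y ↘ Spec (CommRingCat.of A))]

/-- No self-extensions at the stalk of the canonical sheaf at a Cohen–Macaulay point. -/
theorem extVanish_stalk (d : ℕ) (hS : RelCanon.IsSkMor (Y ↘ Spec (CommRingCat.of A)) 2)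
    (hd : Cyc.HasRelDim (Y ↘ Spec (CommRingCat.of A)) d)
    (ω : Y.Modules) (hω : RelCanon.IsDualizingSheaf A Y d ω) (y : Y)
    (hy : MoreMor.IsCMAt (Y ↘ Spec (CommRingCat.of A)) y) :
    ExtVanish (Y.presheaf.stalk y) (ω.presheaf.stalk y) (ω.presheaf.stalk y) := by
  let f := Y ↘ Spec (CommRingCat.of A)
  haveI : LocallyOfFiniteType f := hS.2.1
  haveI : IsLocallyNoetherian Y := LocallyOfFiniteType.isLocallyNoetherian f
  obtain ⟨hωc, hch⟩ := exists_chart_ext d hS hd ω hω
  obtain ⟨B, j, hj, hyj, -, hext⟩ := hch ⊤ y trivial hy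
  haveI := hj
  haveI := hωc.1
  let W : Y.Opens := j ''ᵁ ⊤
  have hW : IsAffineOpen W := (isAffineOpen_top _).image_of_isOpenImmersion j
  have hyW : y ∈ W := by
    obtain ⟨q, rfl⟩ := hyj
    exact ⟨q, trivial, rfl⟩
  let σ : B ≃+* Γ(Y, W) :=
    (Scheme.ΓSpecIso B).symm.commRingCatIsoToRingEquiv.trans (j.appIso ⊤).symm.commRingCatIsoToRingEquiv
  let N := (moduleSpecΓFunctor (R := B)).obj (ω.restrict j)
  let ε : N ≃+ Γ(ω, W) := AddEquiv.refl _
  have h1 : ExtVanish Γ(Y, W) Γ(ω, W) Γ(ω, W) :=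
    ExtVanish.congr (R := B) (M := N) (N := N) σ ε
      (fun r z => InvExt.restrict_smul j ω ((Scheme.ΓSpecIso B).inv r) z) ε
      (fun r z => InvExt.restrict_smul j ω ((Scheme.ΓSpecIso B).inv r) z) (extVanish_of_ext hext)
  haveI : IsNoetherianRing Γ(Y, W) := IsLocallyNoetherian.component_noetherian ⟨W, hW⟩
  haveI : Module.Finite Γ(Y, W) Γ(ω, W) := QCoh.moduleFinite_of_isFiniteType ω hωc.2 hW
  letI := Y.presheaf.algebra_section_stalk ⟨y, hyW⟩
  haveI := FlatFP.isLocalization_stalk_primeAt hW hyW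
  letI : Module Γ(Y, W) (ω.presheaf.stalk y) := Module.compHom _ (Y.presheaf.germ W y hyW).hom
  haveI : IsScalarTower Γ(Y, W) (Y.presheaf.stalk y) (ω.presheaf.stalk y) :=
    IsScalarTower.of_algebraMap_smul fun _ _ => rfl
  obtain ⟨g, hg, -⟩ := FlatFP.isLocalizedModule_germ (F := ω) hW hyW
  haveI := hg
  exact ExtVanish.localized (WeakAss.primeAt y hyW).primeCompl g g h1

/-- **At a Cohen–Macaulay point of the fibre a flat module restricting to the canonical sheaf of the fibre is the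
relative canonical sheaf.** -/
theorem nonempty_stalk_iso (d : ℕ) (hS : RelCanon.IsSkMor (Y ↘ Spec (CommRingCat.of A)) 2)
    (hd : Cyc.HasRelDim (Y ↘ Spec (CommRingCat.of A)) d)
    (ω : Y.Modules) (hω : RelCanon.IsDualizingSheaf A Y d ω) (L : Y.Modules) (hL : Coh.IsCoh L)
    (t : ↥(Spec (CommRingCat.of A))) (h2 : RelCanon.IsDualizingSheafFib (Y ↘ Spec (CommRingCat.of A)) d L t)
    (z : (Y ↘ Spec (CommRingCat.of A)).fiber t)
    (hLf : FlatMod.IsFlatOverAt (Y ↘ Spec (CommRingCat.of A)) L ((Y ↘ Spec (CommRingCat.of A)).fiberι t z))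
    (hcm : MoreMor.IsCMAt (Y ↘ Spec (CommRingCat.of A)) ((Y ↘ Spec (CommRingCat.of A)).fiberι t z)) :
    Nonempty (L.presheaf.stalk ((Y ↘ Spec (CommRingCat.of A)).fiberι t z)
      ≃ₗ[Y.presheaf.stalk ((Y ↘ Spec (CommRingCat.of A)).fiberι t z)]
      ω.presheaf.stalk ((Y ↘ Spec (CommRingCat.of A)).fiberι t z)) := by
  let f := Y ↘ Spec (CommRingCat.of A)
  haveI : Flat f := hS.1
  haveI : LocallyOfFiniteType f := hS.2.1
  haveI : LocallyOfFinitePresentation f := GrothLib.LocProp.locallyOfFinitePresentation_of_isLocallyNoetherian f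
  haveI : IsLocallyNoetherian Y := LocallyOfFiniteType.isLocallyNoetherian f
  let κ := (Spec (CommRingCat.of A)).residueField t
  letI : (f.fiber t).Over (Spec (CommRingCat.of κ)) := ⟨f.fiberToSpecResidueField t⟩
  let f' : f.fiber t ⟶ Spec (CommRingCat.of κ) := f.fiberToSpecResidueField t
  let φ : CommRingCat.of A ⟶ κ := Spec.preimage ((Spec (CommRingCat.of A)).fromSpecResidueField t)
  have hsq : IsPullback (f.fiberι t) ((f.fiber t) ↘ Spec (CommRingCat.of κ)) f (Spec.map (CommRingCat.ofHom φ.hom)) := by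
    change IsPullback (f.fiberι t) f' f (Spec.map φ)
    rw [Spec.map_preimage]
    exact IsPullback.of_hasPullback _ _
  haveI : IsProper ((f.fiber t) ↘ Spec (CommRingCat.of κ)) :=
    MorphismProperty.of_isPullback hsq (inferInstance : IsProper f)
  haveI : IsLocallyNoetherian (f.fiber t) :=
    LocallyOfFiniteType.isLocallyNoetherian ((f.fiber t) ↘ Spec (CommRingCat.of κ))
  obtain ⟨U, hUeq⟩ : ∃ U : Y.Opens, ∀ y, y ∈ U ↔ MoreMor.IsCMAt f y :=
    ⟨⟨{y | MoreMor.IsCMAt f y}, Groth.Agent.S4961.result f⟩, fun _ => Iff.rfl⟩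
  obtain ⟨hfl, hbc⟩ := cm_data d hS hd ω hω U hUeq
  let ωt := (Scheme.Modules.pullback (f.fiberι t)).obj L
  obtain ⟨eW⟩ := hbc t ωt h2
  let y := f.fiberι t z
  obtain ⟨e₂⟩ := nonempty_stalk_of_restrict (f.fiberι t ⁻¹ᵁ U) eW z ((hUeq y).2 hcm)
  obtain ⟨hωc, -⟩ := exists_chart_ext d hS hd ω hω
  let Q := (f.fiber t).presheaf.stalk z
  have hQ : ExtVanish Q (ωt.presheaf.stalk z) (ωt.presheaf.stalk z) :=
    extVanish_stalk (A := κ) d (isSkMor_of_isPullback hsq hS) (GrothLib.CycFlat.hasRelDim_of_isPullback hsq hd) ωt h2 z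
      ((GrothLib.CurveStk.ptProp_cm.baseChange hsq z).2 hcm)
  obtain ⟨θ, eL, hθ, heL⟩ := GrothLib.ArtCrit20.exists_fibre_stalk_equiv_map f L t z
  obtain ⟨θ', eω, hθ', heω⟩ := GrothLib.ArtCrit20.exists_fibre_stalk_equiv_map f ω t z
  obtain rfl : θ = θ' := RingEquiv.ext fun b => by
    obtain ⟨b, rfl⟩ := Ideal.Quotient.mk_surjective b
    rw [hθ, hθ']
  let C := Y.presheaf.stalk y
  let R := (Spec (CommRingCat.of A)).presheaf.stalk (f y)
  letI : Algebra R C := (f.stalkMap y).hom.toAlgebra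
  haveI : IsLocalHom (algebraMap R C) := inferInstanceAs (IsLocalHom (f.stalkMap y).hom)
  let I : Ideal C := (maximalIdeal R).map (algebraMap R C)
  let L₁ := L.presheaf.stalk y
  let W₁ := ω.presheaf.stalk y
  haveI : Module.Finite C L₁ := QuasiFlat.finite_stalk _ hL y
  haveI : Module.Finite C W₁ := QuasiFlat.finite_stalk _ hωc y
  letI : Module R L₁ := Module.compHom L₁ (f.stalkMap y).hom
  haveI : IsScalarTower R C L₁ := IsScalarTower.of_algebraMap_smul fun _ _ => rfl
  letI : Module R W₁ := Module.compHom W₁ (f.stalkMap y).hom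
  haveI : IsScalarTower R C W₁ := IsScalarTower.of_algebraMap_smul fun _ _ => rfl
  haveI : Module.Flat R L₁ := hLf
  haveI : Module.Flat R W₁ := hfl y ((hUeq y).2 hcm)
  let a : (L₁ ⧸ (I • ⊤ : Submodule C L₁)) ≃+ ωt.presheaf.stalk z := eL
  let b : (W₁ ⧸ (I • ⊤ : Submodule C W₁)) ≃+ ωt.presheaf.stalk z := eω.trans e₂.toAddEquiv
  have hb : ∀ (c : C ⧸ I) x, b (c • x) = θ c • b x := fun c x => by
    show e₂ (eω (c • x)) = θ c • e₂ (eω x)
    rw [heω, map_smul]
  have hext : ExtVanish (C ⧸ I) (L₁ ⧸ (I • ⊤ : Submodule C L₁)) (W₁ ⧸ (I • ⊤ : Submodule C W₁)) :=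
    ExtVanish.congr θ.symm a.symm (fun r x => a.injective (by
        refine (a.apply_symm_apply _).trans (Eq.trans ?_ (heL (θ.symm r) (a.symm x)).symm)
        show r • x = θ (θ.symm r) • a (a.symm x)
        rw [θ.apply_symm_apply, a.apply_symm_apply]))
      b.symm (fun r x => b.injective (by
        refine (b.apply_symm_apply _).trans (Eq.trans ?_ (hb (θ.symm r) (b.symm x)).symm)
        rw [θ.apply_symm_apply, b.apply_symm_apply])) hQ
  let φ₀ : (L₁ ⧸ (I • ⊤ : Submodule C L₁)) →ₗ[C] (W₁ ⧸ (I • ⊤ : Submodule C W₁)) :=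
    { toFun := fun x => b.symm (a x)
      map_add' := fun x x' => by simp
      map_smul' := fun c x => b.injective (by
        rw [b.apply_symm_apply, show a (c • x) = θ (Ideal.Quotient.mk I c) • a x from heL (Ideal.Quotient.mk I c) x,
          RingHom.id_apply, show b (c • b.symm (a x)) = θ (Ideal.Quotient.mk I c) • b (b.symm (a x)) from
            hb (Ideal.Quotient.mk I c) _, b.apply_symm_apply]) }
  have hbij : Function.Bijective φ₀ := (a.trans b.symm).bijective
  obtain ⟨Φ, hΦ⟩ := exists_lift_of_ext I rfl hext φ₀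
  have hIm : I ≤ Ideal.jacobson ⊥ := by
    rw [IsLocalRing.jacobson_eq_maximalIdeal ⊥ bot_ne_top]
    exact Ideal.map_le_iff_le_comap.2 (IsLocalRing.maximalIdeal_comap (algebraMap R C)).ge
  have hsur : Function.Surjective Φ := by
    rw [← LinearMap.range_eq_top]
    refine top_le_iff.1 (Submodule.le_of_le_smul_of_le_jacobson_bot (Module.Finite.fg_top (R := C) (M := W₁)) hIm
      fun w _ => ?_)
    obtain ⟨x, hx⟩ := hbij.2 (Submodule.Quotient.mk w)
    obtain ⟨x, rfl⟩ := Submodule.Quotient.mk_surjective _ x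
    rw [← hΦ, Submodule.Quotient.eq] at hx
    exact Submodule.mem_sup.2 ⟨Φ x, ⟨x, rfl⟩, _, neg_mem hx, by abel⟩
  haveI : Module.Finite C (LinearMap.ker Φ) := inferInstance
  have hker : LinearMap.ker Φ = ⊥ := by
    refine Submodule.eq_bot_of_le_smul_of_le_jacobson_bot I _ (IsNoetherian.noetherian _) (fun x hx => ?_) hIm
    have h1 : x ∈ (I • ⊤ : Submodule C L₁) := by
      refine (Submodule.Quotient.mk_eq_zero _).1 (hbij.1 ?_)
      rw [← hΦ, show Φ x = 0 from hx, Submodule.Quotient.mk_zero, map_zero]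
    have h2 := GrothLib.GrowthBd.mem_smul_of_flat_quot (LinearMap.ker Φ).subtype Φ
      (Submodule.injective_subtype _) hsur (LinearMap.exact_subtype_ker_map Φ) (maximalIdeal R) ⟨x, hx⟩ h1
    have h3 := Submodule.mem_map_of_mem (f := (LinearMap.ker Φ).subtype) h2
    rwa [Submodule.map_smul'', Submodule.map_top, Submodule.range_subtype] at h3
  exact ⟨LinearEquiv.ofBijective Φ ⟨LinearMap.ker_eq_bot.1 hker, hsur⟩⟩

/-- The module of homomorphisms at such a point is free of rank one and evaluation is bijective. -/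
theorem hom_stalk_data {X : Scheme.{u}} [IsLocallyNoetherian X] {L ω : X.Modules} (hL : Coh.IsCoh L) (hω : Coh.IsCoh ω)
    (y : X) (e : L.presheaf.stalk y ≃ₗ[X.presheaf.stalk y] ω.presheaf.stalk y)
    (hEnd : Function.Bijective (LinearMap.lsmul (X.presheaf.stalk y) (ω.presheaf.stalk y))) :
    RelCanon.InvertibleAt (RefHull.homSh L ω) y ∧
      ∀ ε : CohB1.tensorMod L (RefHull.homSh L ω) ⟶ ω,
        (∀ (W : X.affineOpens) (m : Γ(L, W.1)) (g : Γ(RefHull.homSh L ω, W.1)),
          ε.app W.1 (OX.tmulSec L (RefHull.homSh L ω) W.1 m g) = LM28.appV L ω g m) →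
        Function.Bijective (WeakAss.stalkLinear ε y) := by
  let C := X.presheaf.stalk y
  let P := RefHull.homSh L ω
  have hrel := HomSh.hasRel_of_isCoh hL
  let E := LinearEquiv.ofBijective (RefHull.evalStalk L ω y) (hrel.evalStalk_bijective ω y)
  let H : RefHull.StalkHom L ω y ≃ₗ[C] (ω.presheaf.stalk y →ₗ[C] ω.presheaf.stalk y) :=
    LinearEquiv.arrowCongr e (LinearEquiv.refl C _)
  let θ : P.presheaf.stalk y ≃ₗ[C] C := E.trans (H.trans (LinearEquiv.ofBijective _ hEnd).symm)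
  refine ⟨invertibleAt_of_stalk (HomSh.isCoh_homSh hrel hω) y θ, fun ε hε => ?_⟩
  have key : ∀ (v : L.presheaf.stalk y) (w : P.presheaf.stalk y),
      WeakAss.stalkLinear ε y (Ref1.tmulStalk L P y v w) = E w v := by
    intro v w
    obtain ⟨U₁, h₁, m, rfl⟩ := TopCat.Presheaf.exists_germ_eq L.presheaf v
    obtain ⟨U₂, h₂, g, rfl⟩ := TopCat.Presheaf.exists_germ_eq P.presheaf w
    obtain ⟨W, hW, hyW, hWU⟩ := exists_isAffineOpen_mem_and_subset (x := y) (U := U₁ ⊓ U₂) ⟨h₁, h₂⟩
    rw [← TopCat.Presheaf.germ_res_apply L.presheaf (homOfLE (fun z hz => (hWU hz).1 : W ≤ U₁)) y hyW m,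
      ← TopCat.Presheaf.germ_res_apply P.presheaf (homOfLE (fun z hz => (hWU hz).2 : W ≤ U₂)) y hyW g,
      ← Ref1.germ_tmul, WeakAss.stalkLinear_germ]
    erw [hε ⟨W, hW⟩]
    rw [LM28.germ_appV]
    exact (LinearMap.congr_fun (RefHull.evalStalk_germ L ω y hyW _) _).symm
  let w₀ : P.presheaf.stalk y := θ.symm 1
  have hw₀ : ∀ v, E w₀ v = e v := fun v => by
    have h : H (E w₀) = LinearMap.lsmul C _ 1 := by
      have h0 : ∀ x, H (E x) = LinearEquiv.ofBijective _ hEnd (θ x) := fun x =>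
        ((LinearEquiv.ofBijective _ hEnd).apply_symm_apply (H (E x))).symm
      refine (h0 _).trans ?_
      rw [show θ w₀ = 1 from θ.apply_symm_apply 1]
      rfl
    have h' := LinearMap.congr_fun h (e v)
    simpa [H] using h'
  let T : L.presheaf.stalk y ≃ₗ[C] (CohB1.tensorMod L P).presheaf.stalk y :=
    (TensorProduct.rid C _).symm ≪≫ₗ TensorProduct.congr (LinearEquiv.refl C _) θ.symm ≪≫ₗ (Ref1.tensorStalk L P y).symm
  have hT : ∀ v, WeakAss.stalkLinear ε y (T v) = e v := fun v => by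
    rw [← hw₀ v, ← key v w₀]
    congr 1
  have h : ⇑(WeakAss.stalkLinear ε y) = ⇑(T.symm.trans e) := funext fun x => by
    obtain ⟨v, rfl⟩ := T.surjective x
    rw [hT]
    simp
  rw [h]
  exact (T.symm.trans e).bijective

end GrothLib.ExtSplit20

end
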