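import Groth.Agent.Lib.DualFree20.ReflMain
import Groth.Agent.Lib.FTIdeals9.Basic
import Groth.Agent.Lib.PushDepth12.Main
import Groth.Agent.Lib.TensorPerf20.FlatKernel
import Groth.Agent.Lib.QCoh.DevissageSummands
import Groth.Agent.Lib.ExtSplit20.Alg

/-!
# Depth of the relative canonical sheaf off the Cohen–Macaulay locus
-/

set_option autoImplicit false
set_option linter.all false
set_option backward.isDefEq.respectTransparency false
set_option maxHeartbeats 1600000
set_option synthInstance.maxHeartbeats 200000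

universe u

open CategoryTheory CategoryTheory.Limits AlgebraicGeometry TopologicalSpace IsLocalRing
attribute [local instance] HasDerivedCategory.standard

noncomputable section

namespace GrothLib.ExtSplit20

open GrothLib.OX GrothLib.DualFree20

/-- At a non-Cohen–Macaulay point of a flat morphism whose fibre is `(S₃)` there the fibre has dimension at
least two and the local ring has depth at least three. -/
theorem three_le_depth_of_not_cm {X S : Scheme.{u}} (f : X ⟶ S) [Flat f] [LocallyOfFiniteType f]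
    [IsLocallyNoetherian X] [IsLocallyNoetherian S] (x : X)
    (h3 : RelCanon.SkAt 3 (Coh.structureModule (f.fiber (f x))) (f.asFiber x)) (hx : ¬ MoreMor.IsCMAt f x) :
    (2 : WithBot ℕ∞) ≤ ringKrullDim ((f.fiber (f x)).presheaf.stalk (f.asFiber x)) ∧
      (3 : ℕ∞) ≤ LocCoh.depth (X.presheaf.stalk x) (X.presheaf.stalk x) := by
  let F := (f.fiber (f x)).presheaf.stalk (f.asFiber x)
  haveI : IsNoetherianRing F := GrothLib.DimCut.isNoetherianRing_stalk_fiber f _ _
  haveI : Module.Finite F ((Coh.structureModule (f.fiber (f x))).presheaf.stalk (f.asFiber x)) :=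
    Module.Finite.equiv (HomSh.unitStalk (X := f.fiber (f x)) (f.asFiber x))
  have hb : GrothLib.SyntLoc.SkBound 3 F := GrothLib.SyntLoc.skBound_of_hasSk
    (GrothLib.SkExt.hasSk_congr (HomSh.unitStalk (X := f.fiber (f x)) (f.asFiber x)).symm h3)
  unfold GrothLib.SyntLoc.SkBound at hb
  have hdim : (3 : WithBot ℕ∞) ≤ ringKrullDim F := by
    by_contra hlt
    refine hx ⟨Flat.stalkMap f x, (GrothLib.CMMor6.cm_iff F).2 (le_antisymm ?_ (GrothLib.CMMor6.depth_le_dim F))⟩
    rwa [min_eq_right (show ringKrullDim F ≤ ((3 : ℕ) : WithBot ℕ∞) from (not_le.1 hlt).le)] at hb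
  rw [min_eq_left (by exact_mod_cast hdim)] at hb
  have hF : (3 : ℕ∞) ≤ LocCoh.depth F F := WithBot.coe_le_coe.1 hb
  refine ⟨le_trans (by exact_mod_cast (show (2 : ℕ) ≤ 3 by norm_num)) hdim, ?_⟩
  letI := (f.stalkMap x).hom.toAlgebra
  haveI : IsLocalHom (algebraMap (S.presheaf.stalk (f x)) (X.presheaf.stalk x)) :=
    inferInstanceAs (IsLocalHom (f.stalkMap x).hom)
  haveI : Module.Flat (S.presheaf.stalk (f x)) (X.presheaf.stalk x) := Flat.stalkMap f x
  obtain ⟨hsurj, hker⟩ := GrothLib.FibreFlat.fiberι_stalkMap' f (f x) (f.asFiber x) x (f.fiberι_asFiber x)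
  let J := (maximalIdeal (S.presheaf.stalk (f x))).map (algebraMap (S.presheaf.stalk (f x)) (X.presheaf.stalk x))
  let e : (X.presheaf.stalk x ⧸ J) ≃+* F :=
    (Ideal.quotEquivOfEq hker.symm).trans (RingHom.quotientKerEquivOfSurjective hsurj)
  haveI : IsLocalRing (X.presheaf.stalk x ⧸ J) := e.symm.isLocalRing
  rw [GrothLib.CMMor6.depth_eq_add (A := S.presheaf.stalk (f x))]
  refine le_trans ?_ le_add_self
  refine hF.trans (le_of_eq ?_)
  letI : Algebra (X.presheaf.stalk x ⧸ J) F := e.toRingHom.toAlgebra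
  haveI : Module.Finite (X.presheaf.stalk x ⧸ J) F := Module.Finite.of_surjective (Algebra.linearMap _ _) e.surjective
  rw [← GrothLib.Faltings.depth_eq_of_surjective (A := X.presheaf.stalk x ⧸ J) e.surjective F]
  exact (GrothLib.Depth.idealDepth_eq_of_equiv _
    (LinearEquiv.ofBijective (Algebra.linearMap (X.presheaf.stalk x ⧸ J) F) e.bijective)).symm

variable {A : Type u} [CommRing A] [IsNoetherianRing A] {Y : Scheme.{u}} [Y.Over (Spec (CommRingCat.of A))]
  [IsProper (Y ↘ Spec (CommRingCat.of A))]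

/-- **Depth two off an open meeting the fibres in codimension two.** -/
theorem two_le_depth_dualizing (d : ℕ)
    (hd : ∀ t, topologicalKrullDim ↥((Y ↘ Spec (CommRingCat.of A)).fiber t) ≤ (d : WithBot ℕ∞))
    (U : Y.Opens)
    (hU2 : ∀ y, y ∉ U → (2 : WithBot ℕ∞) ≤ ringKrullDim (((Y ↘ Spec (CommRingCat.of A)).fiber
      ((Y ↘ Spec (CommRingCat.of A)) y)).presheaf.stalk ((Y ↘ Spec (CommRingCat.of A)).asFiber y)))
    {ω : Y.Modules} (hω : RelCanon.IsDualizingSheaf A Y d ω) (hωc : Coh.IsCoh ω) (x : Y) (hx : x ∉ U) :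
    (2 : ℕ∞) ≤ LocCoh.depth (Y.presheaf.stalk x) (ω.presheaf.stalk x) := by
  classical
  let f := Y ↘ Spec (CommRingCat.of A)
  haveI : IsLocallyNoetherian Y := LocallyOfFiniteType.isLocallyNoetherian f
  haveI : CompactSpace Y := QuasiCompact.compactSpace_of_compactSpace f
  haveI : AlgebraicGeometry.IsNoetherian Y := {}
  haveI : QuasiSeparatedSpace Y := quasiSeparatedSpace_of_quasiSeparated f
  haveI := hωc.1
  let res := Scheme.Modules.restrictFunctor U.ι
  let adjU := Scheme.Modules.restrictAdjunction U.ι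
  let G := (Scheme.Modules.pushforward U.ι).obj (res.obj ω)
  let η : ω ⟶ G := adjU.unit.app ω
  haveI : (res.obj ω).IsQuasicoherent := (inferInstance : ((Scheme.Modules.restrictFunctor U.ι).obj ω).IsQuasicoherent)
  haveI : G.IsQuasicoherent := QCoh.isQuasicoherent_pushforward U.ι _
  haveI : IsIso (res.map η) := IsIso.of_isIso_fac_right (adjU.left_triangle_components ω)
  haveI : res.IsRightAdjoint := (inferInstance : (Scheme.Modules.restrictFunctor U.ι).IsRightAdjoint)
  have hthin : ∀ (t : ↥(Spec (CommRingCat.of A))) (ξ : f.fiber t),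
      closure {ξ} ∈ irreducibleComponents ↥(f.fiber t) → f.fiberι t ξ ∈ U := by
    intro t ξ hξ
    refine not_not.1 fun h => ?_
    have h2 := hU2 _ h
    rw [← ringKrullDim_fiber_congr f t ξ _ rfl, GrothLib.AlgSp.ringKrullDim_stalk_eq_zero_of_component hξ] at h2
    exact absurd h2 (not_le.2 (WithBot.coe_lt_coe.2 (by norm_num : (0 : ℕ∞) < 2)))
  have hinj : ∀ W : Y.Opens, Function.Injective (η.app W) := fun W => by
    refine (injective_iff_map_eq_zero _).2 fun s hs => ?_
    refine app_eq_zero_of_thin d hd U hthin hω hωc W s fun z hz hzU => ?_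
    have h1 : ω.presheaf.map (homOfLE (U.ι.image_preimage_le W)).op s = (0 : Γ(ω, U.ι ''ᵁ (U.ι ⁻¹ᵁ W))) := hs
    have h2 : z ∈ U.ι ''ᵁ (U.ι ⁻¹ᵁ W) := ⟨⟨z, hzU⟩, hz, rfl⟩
    have h3 := TopCat.Presheaf.germ_res_apply ω.presheaf (homOfLE (U.ι.image_preimage_le W)) z h2 s
    rw [h1, map_zero] at h3
    exact h3.symm
  have hsur : ∀ W : Y.Opens, IsAffineOpen W → Function.Surjective (η.app W) := by
    intro W hW g
    rcases Set.eq_empty_or_nonempty ((U : Set Y)ᶜ) with he | hne
    · exact absurd (he ▸ (hx : x ∈ (U : Set Y)ᶜ)) (Set.notMem_empty x)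
    obtain ⟨Q, hQ, hgQ⟩ := FTIdeals9.exists_locGen_family (F := G) (κ := PUnit.{u + 1}) (fun _ => W)
      (fun _ => hW.isCompact) (fun _ => g)
    haveI := hQ.isQuasicoherent
    have hQc : Coh.IsCoh Q.obj := ⟨inferInstance, hQ.isFiniteType⟩
    let d0 : ω ⊞ Q.obj ⟶ G := biprod.desc η Q.ι
    let H := Abelian.image d0
    haveI : (cokernel d0).IsQuasicoherent := by
      haveI := Cohom.isQuasicoherent_biprod ω Q.obj
      exact QCoh.isQuasicoherent_cokernel d0
    haveI : H.IsQuasicoherent := QCoh.isQuasicoherent_kernel _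
    have hHc : Coh.IsCoh H := TensorPerf20.isCoh_of_epi (Abelian.factorThruImage d0)
      (QCoh.isCoh_biprod' hωc hQc) inferInstance
    let ιH : H ⟶ G := Abelian.image.ι d0
    let b : ω ⟶ H := biprod.inl ≫ Abelian.factorThruImage d0
    have hb : b ≫ ιH = η := by
      show (biprod.inl ≫ Abelian.factorThruImage d0) ≫ Abelian.image.ι d0 = η
      rw [Category.assoc, Abelian.image.fac, biprod.inl_desc]
    haveI : IsIso (res.map ιH) := by
      haveI : Mono (res.map ιH) := inferInstance
      haveI : Epi (res.map ιH) := epi_of_epi_fac (show res.map b ≫ res.map ιH = res.map η by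
        rw [← Functor.map_comp, hb])
      exact isIso_of_mono_of_epi _
    haveI hbU : IsIso (res.map b) := IsIso.of_isIso_fac_right (show res.map b ≫ res.map ιH = res.map η by
      rw [← Functor.map_comp, hb])
    haveI : Mono η := Preadditive.mono_of_kernel_iso_zero (IsZero.iso (by
      refine OX.isZero_of_subsingleton_stalks _ fun y => subsingleton_of_forall_eq 0 fun w => ?_
      obtain ⟨T, hyT, s, rfl⟩ := TopCat.Presheaf.exists_germ_eq (kernel η).presheaf w
      have h0 : (kernel.ι η ≫ η).app T s = 0 := by rw [kernel.condition]; rfl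
      have hs : (kernel.ι η).app T s = 0 := hinj T (h0.trans (map_zero (η.app T).hom).symm)
      rw [show s = 0 from ModDesc.app_injective_of_mono (kernel.ι η) T (hs.trans (map_zero _).symm), map_zero])
      (isZero_zero _))
    haveI : Mono b := mono_of_mono_fac hb
    let C := cokernel b
    have hCc : Coh.IsCoh C := QCoh.isCoh_cokernel b hωc hHc
    have hCs : CohB1.support C ⊆ ((U : Set Y)ᶜ) := by
      have hz : IsZero (res.obj C) := by
        refine IsZero.of_epi_eq_zero (res.map (cokernel.π b)) ?_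
        rw [← cancel_epi (res.map b), ← Functor.map_comp, cokernel.condition, Functor.map_zero, comp_zero]
      have h1 := OX.support_subset_of_isZero_restrict U.ι hz
      rwa [Scheme.Opens.range_ι] at h1
    obtain ⟨hd2, hvan⟩ := subsingleton_HH_of_codim_two (A := A) d hd ⟨(U : Set Y)ᶜ, U.isOpen.isClosed_compl⟩
      (fun y hy => hU2 y hy) hne hCc hCs
    let S : ShortComplex Y.Modules := ShortComplex.mk b (cokernel.π b) (cokernel.condition b)
    have hSe : S.ShortExact := { exact := ShortComplex.exact_of_g_is_cokernel _ (cokernelIsCokernel b) }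
    obtain ⟨d', rfl⟩ : ∃ d', d = d' + 1 := ⟨d - 1, by omega⟩
    haveI : Subsingleton (Coh.HH Y C (d' + 1)) := hvan _ (by omega)
    haveI : Subsingleton (Coh.HH Y C d') := hvan _ (by omega)
    have hinj' : Function.Injective (Cohom.hhMap A S.f (d' + 1)) := fun x₁ x₂ h => by
      obtain ⟨z, hz⟩ := (Cohom.exact₁ (A := A) hSe d' (x₁ - x₂)).1 (by rw [map_sub, h, sub_self])
      rw [← sub_eq_zero, ← hz]
      haveI : Subsingleton (Coh.HH Y S.X₃ d') := ‹Subsingleton (Coh.HH Y C d')›
      rw [Subsingleton.elim z 0, map_zero]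
    have hsur' : Function.Surjective (Cohom.hhMap A S.f (d' + 1)) := fun y => by
      haveI : Subsingleton (Coh.HH Y S.X₃ (d' + 1)) := ‹Subsingleton (Coh.HH Y C (d' + 1))›
      exact (Cohom.exact₂ (A := A) hSe (d' + 1) y).1 (Subsingleton.elim _ _)
    obtain ⟨tr, -, htr⟩ := hω
    let E := LinearEquiv.ofBijective (Cohom.hhMap A b (d' + 1)) ⟨hinj', hsur'⟩
    obtain ⟨r, hr⟩ := (htr H hHc.1).2 (tr ∘ₗ E.symm.toLinearMap)
    have hbr : b ≫ r = 𝟙 ω := (htr ω hωc.1).1 (LinearMap.ext fun x => by
      show tr (Cohom.hhMap A (b ≫ r) (d' + 1) x) = tr (Cohom.hhMap A (𝟙 ω) (d' + 1) x)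
      rw [Euler.hhMap_comp, Euler.hhMap_id]
      refine (LinearMap.congr_fun hr (E x)).trans ?_
      show tr (E.symm (E x)) = tr x
      rw [LinearEquiv.symm_apply_apply])
    have hres : r ≫ η = ιH := by
      refine (adjU.homEquiv H (res.obj ω)).symm.injective ?_
      rw [Adjunction.homEquiv_counit, Adjunction.homEquiv_counit]
      congr 1
      rw [← cancel_epi (res.map b), ← Functor.map_comp, ← Functor.map_comp, reassoc_of% hbr, hb]
    have hg : ∃ h : Γ(H, W), ιH.app W h = g := by
      refine ⟨(biprod.inr ≫ Abelian.factorThruImage d0).app W (Q.lift g (hgQ PUnit.unit)), ?_⟩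
      have hc : (biprod.inr ≫ Abelian.factorThruImage d0) ≫ ιH = Q.ι := by
        show (biprod.inr ≫ Abelian.factorThruImage d0) ≫ Abelian.image.ι d0 = Q.ι
        rw [Category.assoc, Abelian.image.fac, biprod.inr_desc]
      exact ConcreteCategory.congr_hom (congrArg (fun t => Scheme.Modules.Hom.app t W) hc) _
    obtain ⟨h, hh⟩ := hg
    exact ⟨r.app W h, (ConcreteCategory.congr_hom (congrArg (fun t => Scheme.Modules.Hom.app t W) hres) h).trans hh⟩
  -- the unit is bijective on stalks
  let L := WeakAss.stalkLinear η x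
  have hL : Function.Bijective L := by
    refine ⟨(injective_iff_map_eq_zero _).2 fun v hv => ?_, fun v => ?_⟩
    · obtain ⟨T, hxT, s, rfl⟩ := TopCat.Presheaf.exists_germ_eq ω.presheaf v
      rw [WeakAss.stalkLinear_germ, ← map_zero (G.presheaf.germ T x hxT).hom] at hv
      obtain ⟨T', hxT', i, i', e⟩ := TopCat.Presheaf.germ_eq G.presheaf x hxT hxT _ _ hv
      rw [← TopCat.Presheaf.germ_res_apply ω.presheaf i x hxT' s]
      have h1 : η.app T' (ω.presheaf.map i.op s) = 0 := by
        rw [← QCoh.map_app, e, map_zero]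
      rw [show ω.presheaf.map i.op s = 0 from hinj T' (h1.trans (map_zero _).symm), map_zero]
    · obtain ⟨T, hxT, s, rfl⟩ := TopCat.Presheaf.exists_germ_eq G.presheaf v
      obtain ⟨W, hW, hxW, hWT⟩ := exists_isAffineOpen_mem_and_subset (x := x) (U := T) hxT
      obtain ⟨w, hw⟩ := hsur W hW (G.presheaf.map (homOfLE hWT).op s)
      refine ⟨ω.presheaf.germ W x hxW w, ?_⟩
      rw [WeakAss.stalkLinear_germ, hw]
      exact TopCat.Presheaf.germ_res_apply G.presheaf (homOfLE hWT) x hxW s
  let e := LinearEquiv.ofBijective L hL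
  haveI : Module.Finite (Y.presheaf.stalk x) (ω.presheaf.stalk x) := QuasiFlat.finite_stalk _ hωc x
  haveI : Module.Finite (Y.presheaf.stalk x) (G.presheaf.stalk x) := Module.Finite.equiv e
  have h2 := (GrothLib.PushDepth12.main (f := U.ι) (F := res.obj ω) x).1 (fun ⟨z, hz⟩ => hx (by rw [← hz]; exact z.2))
    inferInstance
  rwa [show LocCoh.depth (Y.presheaf.stalk x) (ω.presheaf.stalk x) = LocCoh.depth (Y.presheaf.stalk x) (G.presheaf.stalk x)
    from Depth.idealDepth_eq_of_equiv _ e]

end GrothLib.ExtSplit20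

end
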