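import Groth.Agent.Lib.FibreFlat.InjCriterion
import Groth.Agent.Lib.FlatOff.FourTerm
import Groth.Agent.Lib.GrowthBd20.Fibre
import Mathlib.Algebra.Homology.DerivedCategory.Ext.ExactSequences
import Mathlib.Algebra.Category.ModuleCat.Ext.HasExt

/-!
# Lifting homomorphisms of flat modules from the closed fibre
-/

set_option autoImplicit false
set_option linter.all false
set_option backward.isDefEq.respectTransparency false
set_option maxHeartbeats 1600000

universe u

open CategoryTheory IsLocalRing Function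

namespace GrothLib.ExtSplit20

variable {R C : Type u} [CommRing R] [IsLocalRing R] [CommRing C] [IsLocalRing C] [IsNoetherianRing C]
  [Algebra R C] [IsLocalHom (algebraMap R C)]

/-- A cokernel flat as soon as it is so at the maximal ideal. -/
theorem flat_coker_local {M N P : Type u} [AddCommGroup M] [Module C M] [Module R M] [IsScalarTower R C M]
    [Module.Finite C M] [AddCommGroup N] [Module C N] [Module R N] [IsScalarTower R C N] [Module.Flat R N]
    [AddCommGroup P] [Module C P] [Module R P] [IsScalarTower R C P] (u : M →ₗ[C] N) (π : N →ₗ[C] P)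
    (hex : Exact u π) (hπ : Surjective π)
    (hu : ∀ x, u x ∈ (maximalIdeal R).map (algebraMap R C) • (⊤ : Submodule C N) →
      x ∈ (maximalIdeal R).map (algebraMap R C) • (⊤ : Submodule C M)) : Module.Flat R P := by
  have hbij : ∀ (W : Type u) [AddCommGroup W] [Module C W],
      Function.Bijective (LocalizedModule.mkLinearMap (maximalIdeal C).primeCompl W) := by
    intro W _ _
    refine ⟨(injective_iff_map_eq_zero _).2 fun w hw => ?_, fun w => ?_⟩
    · obtain ⟨s, hs⟩ := (IsLocalizedModule.eq_zero_iff (maximalIdeal C).primeCompl _).1 hw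
      exact (not_not.1 fun h => s.2 ((mem_maximalIdeal _).2 h) : IsUnit (s : C)).smul_eq_zero.1 hs
    · obtain ⟨⟨v, s⟩, hv⟩ := IsLocalizedModule.surj (maximalIdeal C).primeCompl
        (LocalizedModule.mkLinearMap (maximalIdeal C).primeCompl W) w
      have hu : IsUnit (s : C) := not_not.1 fun h => s.2 ((mem_maximalIdeal _).2 h)
      obtain ⟨t, ht⟩ := hu.exists_left_inv
      refine ⟨t • v, ?_⟩
      rw [map_smul, ← hv]
      show t • (s : C) • w = w
      rw [smul_smul, ht, one_smul]
  let eN : N ≃ₗ[C] LocalizedModule (maximalIdeal C).primeCompl N := LinearEquiv.ofBijective _ (hbij N)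
  let eP : P ≃ₗ[C] LocalizedModule (maximalIdeal C).primeCompl P := LinearEquiv.ofBijective _ (hbij P)
  have hsmul : ∀ (Q : Type u) [AddCommGroup Q] [Module R Q] [Module C Q] [IsScalarTower R C Q] (q : Q),
      q ∈ (maximalIdeal R).map (algebraMap R C) • (⊤ : Submodule C Q) ↔
        q ∈ maximalIdeal R • (⊤ : Submodule R Q) := fun Q _ _ _ _ q => by
    rw [← Submodule.restrictScalars_mem R, Ideal.smul_restrictScalars, Submodule.restrictScalars_top]
  haveI := GrothLib.FibreFlat.flat_coker_noetherian (S := R) (B := C) (maximalIdeal C)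
    (IsLocalRing.maximalIdeal_comap (algebraMap R C)) u π hex hπ
    (Module.Flat.of_linearEquiv (eN.restrictScalars R).symm)
    (fun x hx => ⟨1, fun h => (maximalIdeal.isMaximal C).ne_top ((Ideal.eq_top_iff_one _).2 h), by
      rw [one_smul]; exact (hsmul M x).1 (hu x ((hsmul N _).2 hx))⟩)
  exact Module.Flat.of_linearEquiv (eP.restrictScalars R)

/-- **Lifting from the closed fibre**: a homomorphism of flat modules on the fibre lifts, there being no
first `Ext` there. -/
theorem exists_lift_of_ext {L W : Type u} [AddCommGroup L] [Module C L] [Module R L] [IsScalarTower R C L]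
    [Module.Finite C L] [Module.Flat R L] [AddCommGroup W] [Module C W] [Module R W] [IsScalarTower R C W]
    [Module.Finite C W] [Module.Flat R W] (I : Ideal C) (hI : I = (maximalIdeal R).map (algebraMap R C))
    (hext : ∀ (P K : Type u) (_ : AddCommGroup P) (_ : Module (C ⧸ I) P) (_ : AddCommGroup K) (_ : Module (C ⧸ I) K)
      (ι : K →ₗ[C ⧸ I] P) (π : P →ₗ[C ⧸ I] (L ⧸ (I • ⊤ : Submodule C L))), Injective ι → Surjective π → Exact ι π →
      ∀ β : K →ₗ[C ⧸ I] (W ⧸ (I • ⊤ : Submodule C W)), ∃ α : P →ₗ[C ⧸ I] (W ⧸ (I • ⊤ : Submodule C W)), ∀ x, α (ι x) = β x)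
    (φ₀ : (L ⧸ (I • ⊤ : Submodule C L)) →ₗ[C] (W ⧸ (I • ⊤ : Submodule C W))) :
    ∃ φ : L →ₗ[C] W, ∀ x, (Submodule.Quotient.mk (φ x) : W ⧸ (I • ⊤ : Submodule C W)) = φ₀ (Submodule.Quotient.mk x) := by
  classical
  obtain ⟨n, p, hp⟩ := Module.Finite.exists_fin' C L
  let K := LinearMap.ker p
  haveI : Module.Finite C K := inferInstance
  obtain ⟨m, q, hq⟩ := Module.Finite.exists_fin' C K
  let G := LinearMap.ker q
  haveI : Module.Finite C G := inferInstance
  obtain ⟨l, r, hr⟩ := Module.Finite.exists_fin' C G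
  let k : Fin m → (Fin n → C) := fun j => (q (Pi.single j 1) : Fin n → C)
  let ρ : Fin l → (Fin m → C) := fun i => (r (Pi.single i 1) : Fin m → C)
  let d0 : (Fin n → W) →ₗ[C] (Fin m → W) :=
    { toFun := fun a j => Fintype.linearCombination C a (k j)
      map_add' := fun a b => funext fun j => by simp [Fintype.linearCombination_apply, Finset.sum_add_distrib, smul_add]
      map_smul' := fun c a => funext fun j => by
        simp [Fintype.linearCombination_apply, Finset.smul_sum, smul_comm c] }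
  let d1 : (Fin m → W) →ₗ[C] (Fin l → W) :=
    { toFun := fun a i => Fintype.linearCombination C a (ρ i)
      map_add' := fun a b => funext fun j => by simp [Fintype.linearCombination_apply, Finset.sum_add_distrib, smul_add]
      map_smul' := fun c a => funext fun j => by
        simp [Fintype.linearCombination_apply, Finset.smul_sum, smul_comm c] }
  have hmemI : ∀ {ι : Type} [Fintype ι] [DecidableEq ι] (a : ι → W),
      a ∈ (I • ⊤ : Submodule C (ι → W)) ↔ ∀ i, a i ∈ (I • ⊤ : Submodule C W) := by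
    intro ι _ _ a
    refine ⟨fun h i => Submodule.smul_top_le_comap_smul_top I (LinearMap.proj i) h, fun h => ?_⟩
    rw [← LinearMap.sum_single_apply (fun _ : ι => W) a]
    exact Submodule.sum_mem _ fun i _ => Submodule.smul_top_le_comap_smul_top I (LinearMap.single C (fun _ : ι => W) i) (h i)
  let b1 : ∀ a : Fin m → W, (Fin m → C) →ₗ[C] W := fun a => Fintype.linearCombination C a
  let b0 : ∀ a : Fin n → W, (Fin n → C) →ₗ[C] W := fun a => Fintype.linearCombination C a
  have hd01 : ∀ (a : Fin n → W) (x : Fin m → C), b1 (d0 a) x = b0 a (q x : Fin n → C) := fun a x => by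
    refine LinearMap.congr_fun (show b1 (d0 a) = b0 a ∘ₗ K.subtype ∘ₗ q from
      LinearMap.pi_ext' fun j => LinearMap.ext_ring ?_) x
    simp [b1, b0, d0, k]
  have hcomp : ∀ a, d1 (d0 a) = 0 := fun a => funext fun i => by
    show b1 (d0 a) (ρ i) = 0
    rw [hd01, show q (ρ i) = 0 from (r (Pi.single i 1)).2]
    exact map_zero _
  let T := Fin m → W
  let D := LinearMap.range d0
  let d1' : (T ⧸ D) →ₗ[C] (Fin l → W) := D.liftQ d1 (by rintro _ ⟨a, rfl⟩; exact hcomp a)
  -- exact in the middle on the closed fibre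
  let L₀ := L ⧸ (I • ⊤ : Submodule C L)
  let W₀ := W ⧸ (I • ⊤ : Submodule C W)
  let P₀ := (Fin n → C) ⧸ (I • ⊤ : Submodule C (Fin n → C))
  let K₀ := K ⧸ (I • ⊤ : Submodule C K)
  let ι₀ : K₀ →ₗ[C ⧸ I] P₀ :=
    { toFun := Submodule.mapQ _ _ K.subtype (Submodule.smul_top_le_comap_smul_top I K.subtype)
      map_add' := map_add _
      map_smul' := fun c x => by obtain ⟨c, rfl⟩ := Ideal.Quotient.mk_surjective c; exact map_smul _ c x }
  let π₀ : P₀ →ₗ[C ⧸ I] L₀ :=
    { toFun := Submodule.mapQ _ _ p (Submodule.smul_top_le_comap_smul_top I p)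
      map_add' := map_add _
      map_smul' := fun c x => by obtain ⟨c, rfl⟩ := Ideal.Quotient.mk_surjective c; exact map_smul _ c x }
  have hι₀ : Injective ι₀ := (injective_iff_map_eq_zero _).2 fun x hx => by
    obtain ⟨x, rfl⟩ := Submodule.Quotient.mk_surjective _ x
    refine (Submodule.Quotient.mk_eq_zero _).2 ?_
    have hx' : (x : Fin n → C) ∈ (I • ⊤ : Submodule C (Fin n → C)) := (Submodule.Quotient.mk_eq_zero _).1 hx
    rw [hI] at hx' ⊢
    exact GrothLib.GrowthBd.mem_smul_of_flat_quot K.subtype p K.injective_subtype hp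
      (LinearMap.exact_subtype_ker_map p) (maximalIdeal R) x hx'
  have hex₀ : Exact ι₀ π₀ := fun y => by
    obtain ⟨y, rfl⟩ := Submodule.Quotient.mk_surjective _ y
    refine ⟨fun hy => ?_, ?_⟩
    · have hy' : p y ∈ (I • ⊤ : Submodule C L) := (Submodule.Quotient.mk_eq_zero _).1 hy
      rw [← LinearMap.range_eq_top.2 hp, ← Submodule.map_top, ← Submodule.map_smul''] at hy'
      obtain ⟨z, hz, hzy⟩ := hy'
      refine ⟨Submodule.Quotient.mk ⟨y - z, by show p (y - z) = 0; rw [map_sub, hzy, sub_self]⟩, ?_⟩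
      show Submodule.Quotient.mk (y - z) = Submodule.Quotient.mk y
      rw [Submodule.Quotient.mk_sub, (Submodule.Quotient.mk_eq_zero _).2 hz, sub_zero]
    · rintro ⟨x, hx⟩
      rw [← hx]
      obtain ⟨x, rfl⟩ := Submodule.Quotient.mk_surjective _ x
      show Submodule.Quotient.mk (p x) = 0
      rw [show p x = 0 from x.2]
      rfl
  have hπ₀ : Surjective π₀ := fun y => by
    obtain ⟨y, rfl⟩ := Submodule.Quotient.mk_surjective _ y
    obtain ⟨z, rfl⟩ := hp y
    exact ⟨Submodule.Quotient.mk z, rfl⟩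
  have hextend : ∀ β : K₀ →ₗ[C ⧸ I] W₀, ∃ α : P₀ →ₗ[C ⧸ I] W₀, ∀ x, α (ι₀ x) = β x :=
    hext P₀ K₀ _ _ _ _ ι₀ π₀ hι₀ hπ₀ hex₀
  have hmid : ∀ a : T, d1 a ∈ (I • ⊤ : Submodule C (Fin l → W)) →
      ∃ b : Fin n → W, a - d0 b ∈ (I • ⊤ : Submodule C T) := by
    intro a ha
    let β₁ : (Fin m → C) →ₗ[C] W₀ := (I • ⊤ : Submodule C W).mkQ ∘ₗ b1 a
    have hker : G ≤ LinearMap.ker β₁ := fun g hg => by
      obtain ⟨w, hw⟩ := hr ⟨g, hg⟩
      have h0 : β₁ ∘ₗ G.subtype ∘ₗ r = 0 := LinearMap.pi_ext' fun i => LinearMap.ext_ring (by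
        show (Submodule.Quotient.mk (b1 a (ρ i)) : W₀) = 0
        exact (Submodule.Quotient.mk_eq_zero _).2 ((hmemI (d1 a)).1 ha i))
      have := LinearMap.congr_fun h0 w
      simp only [LinearMap.comp_apply, hw, LinearMap.zero_apply] at this
      exact this
    let β₂ : K →ₗ[C] W₀ := G.liftQ β₁ hker ∘ₗ (q.quotKerEquivOfSurjective hq).symm.toLinearMap
    have hβ₂ : ∀ x, β₂ (q x) = β₁ x := fun x => by
      show G.liftQ β₁ hker ((q.quotKerEquivOfSurjective hq).symm (q x)) = _
      rw [show (q.quotKerEquivOfSurjective hq).symm (q x) = Submodule.Quotient.mk x from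
        (q.quotKerEquivOfSurjective hq).injective (by rw [LinearEquiv.apply_symm_apply]; rfl)]
      rfl
    have hIK : (I • ⊤ : Submodule C K) ≤ LinearMap.ker β₂ := Submodule.smul_le.2 fun c hc x _ => by
      show β₂ (c • x) = 0
      rw [map_smul]
      obtain ⟨w, hw⟩ := Submodule.Quotient.mk_surjective _ (β₂ x)
      rw [← hw, ← Submodule.Quotient.mk_smul]
      exact (Submodule.Quotient.mk_eq_zero _).2 (Submodule.smul_mem_smul hc trivial)
    let β : K₀ →ₗ[C ⧸ I] W₀ :=
      { toFun := (I • ⊤ : Submodule C K).liftQ β₂ hIK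
        map_add' := map_add _
        map_smul' := fun c x => by obtain ⟨c, rfl⟩ := Ideal.Quotient.mk_surjective c; exact map_smul _ c x }
    obtain ⟨α, hα⟩ := hextend β
    choose b hb using fun i : Fin n =>
      Submodule.Quotient.mk_surjective _ (α (Submodule.Quotient.mk (Pi.single i 1 : Fin n → C)))
    have hb' : ∀ z : Fin n → C, (Submodule.Quotient.mk (b0 b z) : W₀) = α (Submodule.Quotient.mk z) := fun z => by
      have h := LinearMap.pi_ext' (f := (I • ⊤ : Submodule C W).mkQ ∘ₗ b0 b)
        (g := (α.restrictScalars C) ∘ₗ (I • ⊤ : Submodule C (Fin n → C)).mkQ)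
        fun i => LinearMap.ext_ring (by
          show (Submodule.Quotient.mk (b0 b (Pi.single i 1)) : W₀) = α (Submodule.Quotient.mk (Pi.single i 1))
          rw [← hb i]
          simp [b0])
      exact LinearMap.congr_fun h z
    refine ⟨b, (hmemI _).2 fun j => ?_⟩
    rw [← Submodule.Quotient.mk_eq_zero, Pi.sub_apply, Submodule.Quotient.mk_sub, sub_eq_zero]
    show (Submodule.Quotient.mk (a j) : W₀) = Submodule.Quotient.mk (b0 b (k j))
    rw [hb']
    refine Eq.trans ?_ (hα (Submodule.Quotient.mk (q (Pi.single j 1)))).symm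
    show _ = β₂ (q (Pi.single j 1))
    rw [hβ₂]
    show _ = Submodule.Quotient.mk (b1 a (Pi.single j 1))
    simp [b1]
  have hu : ∀ x : T ⧸ D, d1' x ∈ (maximalIdeal R).map (algebraMap R C) • (⊤ : Submodule C (Fin l → W)) →
      x ∈ (maximalIdeal R).map (algebraMap R C) • (⊤ : Submodule C (T ⧸ D)) := by
    intro x hx
    obtain ⟨a, rfl⟩ := Submodule.Quotient.mk_surjective _ x
    rw [← hI] at hx ⊢
    obtain ⟨b, hb⟩ := hmid a hx
    have := Submodule.smul_top_le_comap_smul_top I D.mkQ hb
    rwa [Submodule.mem_comap, map_sub, show D.mkQ (d0 b) = 0 from (Submodule.Quotient.mk_eq_zero _).2 ⟨b, rfl⟩,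
      sub_zero] at this
  haveI : Module.Flat R (Fin l → W) := Module.Flat.of_linearEquiv (DirectSum.linearEquivFunOnFintype R (Fin l) fun _ => W).symm
  haveI : Module.Flat R T := Module.Flat.of_linearEquiv (DirectSum.linearEquivFunOnFintype R (Fin m) fun _ => W).symm
  haveI : Module.Flat R ((Fin l → W) ⧸ LinearMap.range d1') :=
    flat_coker_local d1' (LinearMap.range d1').mkQ (LinearMap.exact_map_mkQ_range d1') (Submodule.mkQ_surjective _) hu
  haveI : Module.Flat R (LinearMap.range d1') :=
    GrothLib.FlatOff.flat_left (LinearMap.range d1').subtype (LinearMap.range d1').mkQ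
      (Submodule.injective_subtype _) (Submodule.mkQ_surjective _) (LinearMap.exact_subtype_mkQ _)
  haveI : Module.Flat R (T ⧸ D) := by
    have hK' : LinearMap.ker d1' = ⊥ := by
      refine Submodule.eq_bot_of_le_smul_of_le_jacobson_bot I _ (IsNoetherian.noetherian _) (fun x hx => ?_) ?_
      · have h1 : x ∈ (maximalIdeal R).map (algebraMap R C) • (⊤ : Submodule C (T ⧸ D)) :=
          hu x (by rw [show d1' x = 0 from hx]; exact zero_mem _)
        have h2 := GrothLib.GrowthBd.mem_smul_of_flat_quot (LinearMap.ker d1').subtype d1'.rangeRestrict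
          (Submodule.injective_subtype _) d1'.surjective_rangeRestrict
          (fun y => ⟨fun hy => ⟨⟨y, congrArg Subtype.val hy⟩, rfl⟩, fun ⟨z, hz⟩ => Subtype.ext (hz ▸ z.2)⟩)
          (maximalIdeal R) ⟨x, hx⟩ h1
        rw [← hI] at h2
        have h3 := Submodule.mem_map_of_mem (f := (LinearMap.ker d1').subtype) h2
        rwa [Submodule.map_smul'', Submodule.map_top, Submodule.range_subtype] at h3
      · rw [hI, IsLocalRing.jacobson_eq_maximalIdeal ⊥ bot_ne_top]
        exact Ideal.map_le_iff_le_comap.2 (IsLocalRing.maximalIdeal_comap (algebraMap R C)).ge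
    exact Module.Flat.of_linearEquiv
      ((LinearEquiv.ofInjective d1' (LinearMap.ker_eq_bot.1 hK')).restrictScalars R)
  -- the lift
  choose v hv using fun i : Fin n =>
    Submodule.Quotient.mk_surjective _ (φ₀ (Submodule.Quotient.mk (p (Pi.single i 1))))
  have hv' : ∀ z : Fin n → C, (Submodule.Quotient.mk (b0 v z) : W₀) = φ₀ (Submodule.Quotient.mk (p z)) := fun z => by
    have h := LinearMap.pi_ext' (f := (I • ⊤ : Submodule C W).mkQ ∘ₗ b0 v)
      (g := φ₀ ∘ₗ (I • ⊤ : Submodule C L).mkQ ∘ₗ p) fun i => LinearMap.ext_ring (by simpa [b0] using hv i)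
    exact LinearMap.congr_fun h z
  have hdv : d0 v ∈ (I • ⊤ : Submodule C T) := (hmemI _).2 fun j => by
    rw [← Submodule.Quotient.mk_eq_zero]
    show (Submodule.Quotient.mk (b0 v (k j)) : W₀) = 0
    rw [hv', show p (k j) = 0 from (q (Pi.single j 1)).2]
    exact map_zero _
  have hpure : (⟨d0 v, ⟨v, rfl⟩⟩ : D) ∈ (I • ⊤ : Submodule C D) := by
    rw [hI] at hdv ⊢
    exact GrothLib.GrowthBd.mem_smul_of_flat_quot D.subtype D.mkQ (Submodule.injective_subtype _)
      (Submodule.mkQ_surjective _) (LinearMap.exact_subtype_mkQ _) (maximalIdeal R) _ hdv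
  rw [← LinearMap.range_eq_top.2 d0.surjective_rangeRestrict, ← Submodule.map_top, ← Submodule.map_smul''] at hpure
  obtain ⟨w, hw, hwv⟩ := hpure
  have hwv' : d0 w = d0 v := congrArg Subtype.val hwv
  have hkill : LinearMap.ker p ≤ LinearMap.ker (b0 (v - w)) := fun z hz => by
    obtain ⟨x, hx⟩ := hq ⟨z, hz⟩
    show b0 (v - w) z = 0
    rw [show z = (q x : Fin n → C) from (congrArg Subtype.val hx).symm, ← hd01, map_sub, hwv', sub_self]
    simp [b1, Fintype.linearCombination_apply]
  let φ : L →ₗ[C] W := (LinearMap.ker p).liftQ (b0 (v - w)) hkill ∘ₗ (p.quotKerEquivOfSurjective hp).symm.toLinearMap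
  refine ⟨φ, fun x => ?_⟩
  obtain ⟨z, rfl⟩ := hp x
  show Submodule.Quotient.mk ((LinearMap.ker p).liftQ (b0 (v - w)) hkill ((p.quotKerEquivOfSurjective hp).symm (p z))) = _
  rw [show (p.quotKerEquivOfSurjective hp).symm (p z) = Submodule.Quotient.mk z from
    (p.quotKerEquivOfSurjective hp).injective (by rw [LinearEquiv.apply_symm_apply]; rfl),
    Submodule.liftQ_apply, ← hv' z, Submodule.Quotient.eq]
  have : b0 (v - w) z - b0 v z = -(∑ i, z i • w i) := by
    simp [b0, Fintype.linearCombination_apply, smul_sub, Finset.sum_sub_distrib]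
  rw [this]
  exact neg_mem (Submodule.sum_mem _ fun i _ => Submodule.smul_mem _ _ ((hmemI w).1 hw i))

end GrothLib.ExtSplit20
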