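import Groth.Agent.Lib.ExtSplit20.CMIso
import Groth.Agent.Lib.ShriekBridge22.FieldPoints2
import Groth.Agent.Lib.CohHom9.Depth
import Groth.Agent.Lib.LM28.HomIso

/-!
# Depth of the canonical sheaves of the fibres and of the total space
-/

set_option autoImplicit false
set_option linter.all false
set_option backward.isDefEq.respectTransparency false
set_option maxHeartbeats 2000000
set_option synthInstance.maxHeartbeats 200000

universe u

open CategoryTheory CategoryTheory.Limits AlgebraicGeometry TopologicalSpace Opposite IsLocalRing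
attribute [local instance] HasDerivedCategory.standard

noncomputable section

namespace GrothLib.ExtSplit20

open GrothLib.OX GrothLib.DualFree20 GrothLib.RightAdj22

/-- Off the Cohen–Macaulay locus the `(S₂)` fibres have dimension at least three. -/
theorem three_le_dim_of_not_cm {X S : Scheme.{u}} (f : X ⟶ S) (hS : RelCanon.IsSkMor f 2) [IsLocallyNoetherian X]
    [IsLocallyNoetherian S] (x : X) (hx : ¬ MoreMor.IsCMAt f x) :
    (3 : WithBot ℕ∞) ≤ ringKrullDim ((f.fiber (f x)).presheaf.stalk (f.asFiber x)) := by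
  haveI : Flat f := hS.1
  haveI : LocallyOfFiniteType f := hS.2.1
  let F := (f.fiber (f x)).presheaf.stalk (f.asFiber x)
  haveI : IsNoetherianRing F := GrothLib.DimCut.isNoetherianRing_stalk_fiber f _ _
  haveI : Module.Finite F ((Coh.structureModule (f.fiber (f x))).presheaf.stalk (f.asFiber x)) :=
    Module.Finite.equiv (HomSh.unitStalk (X := f.fiber (f x)) (f.asFiber x))
  have hb : GrothLib.SyntLoc.SkBound 2 F := GrothLib.SyntLoc.skBound_of_hasSk
    (GrothLib.SkExt.hasSk_congr (HomSh.unitStalk (X := f.fiber (f x)) (f.asFiber x)).symm (hS.2.2 x))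
  unfold GrothLib.SyntLoc.SkBound at hb
  by_contra hlt
  refine hx ⟨Flat.stalkMap f x, (GrothLib.CMMor6.cm_iff F).2 (le_antisymm ?_ (GrothLib.CMMor6.depth_le_dim F))⟩
  refine le_trans (le_of_eq ?_) hb
  refine (min_eq_right ?_).symm
  have hn : ringKrullDim F < ((3 : ℕ) : WithBot ℕ∞) := not_le.1 hlt
  revert hn
  generalize ringKrullDim F = a
  intro hn
  cases a with
  | bot => exact bot_le
  | coe a =>
    cases a with
    | top => exact absurd hn (not_lt.2 (WithBot.coe_le_coe.2 le_top))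
    | coe a =>
      exact WithBot.coe_le_coe.2 (ENat.coe_le_coe.2 (Nat.le_of_lt_succ (ENat.coe_lt_coe.1 (WithBot.coe_lt_coe.1 hn))))

/-- The two-codimensional form. -/
theorem two_le_dim_of_not_cm {X S : Scheme.{u}} (f : X ⟶ S) (hS : RelCanon.IsSkMor f 2) [IsLocallyNoetherian X]
    [IsLocallyNoetherian S] (x : X) (hx : ¬ MoreMor.IsCMAt f x) :
    (2 : WithBot ℕ∞) ≤ ringKrullDim ((f.fiber (f x)).presheaf.stalk (f.asFiber x)) :=
  le_trans (by exact_mod_cast (show (2 : ℕ) ≤ 3 by norm_num)) (three_le_dim_of_not_cm f hS x hx)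

/-- The sheaf of homomorphisms into a module of depth two has depth two. -/
theorem two_le_depth_homSh {X : Scheme.{u}} [IsLocallyNoetherian X] {L G : X.Modules} (hL : Coh.IsCoh L)
    (hG : Coh.IsCoh G) (x : X) (h : (2 : ℕ∞) ≤ LocCoh.depth (X.presheaf.stalk x) (G.presheaf.stalk x)) :
    (2 : ℕ∞) ≤ LocCoh.depth (X.presheaf.stalk x) ((RefHull.homSh L G).presheaf.stalk x) := by
  haveI := LocFreeHom.hasSheafHom L
  obtain ⟨e⟩ := LM28.nonempty_homSh_iso_coh L G hL hG
  haveI : Module.Finite (X.presheaf.stalk x) ((RefHull.homSh L G).presheaf.stalk x) :=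
    QuasiFlat.finite_stalk _ (HomSh.isCoh_homSh (HomSh.hasRel_of_isCoh hL) hG) x
  haveI : Module.Finite (X.presheaf.stalk x) ((LocFreeHom.iHom L G).presheaf.stalk x) :=
    Module.Finite.equiv (stalkIso e x)
  rw [show LocCoh.depth (X.presheaf.stalk x) ((RefHull.homSh L G).presheaf.stalk x) =
      LocCoh.depth (X.presheaf.stalk x) ((LocFreeHom.iHom L G).presheaf.stalk x) from
    GrothLib.Depth.idealDepth_eq_of_equiv _ (stalkIso e x)]
  exact (CohHom9.depth_sheafHom hL hG x).2 h

variable {A : Type u} [CommRing A] [IsNoetherianRing A] {Y : Scheme.{u}} [Y.Over (Spec (CommRingCat.of A))]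
  [IsProper (Y ↘ Spec (CommRingCat.of A))]

/-- A scheme of pure relative dimension has dualizing sheaves on its fibres. -/
theorem exists_fibre_dualizing (d : ℕ) (hd : Cyc.HasRelDim (Y ↘ Spec (CommRingCat.of A)) d)
    (t : ↥(Spec (CommRingCat.of A))) :
    ∃ ωt : ((Y ↘ Spec (CommRingCat.of A)).fiber t).Modules,
      @RelCanon.IsDualizingSheaf ((Spec (CommRingCat.of A)).residueField t) _ ((Y ↘ Spec (CommRingCat.of A)).fiber t)
        ⟨(Y ↘ Spec (CommRingCat.of A)).fiberToSpecResidueField t⟩ d ωt := by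
  let f := Y ↘ Spec (CommRingCat.of A)
  let κ := (Spec (CommRingCat.of A)).residueField t
  letI : (f.fiber t).Over (Spec (CommRingCat.of κ)) := ⟨f.fiberToSpecResidueField t⟩
  let f' : f.fiber t ⟶ Spec (CommRingCat.of κ) := f.fiberToSpecResidueField t
  let φ : CommRingCat.of A ⟶ κ := Spec.preimage ((Spec (CommRingCat.of A)).fromSpecResidueField t)
  have hsq : IsPullback (f.fiberι t) f' f (Spec.map (CommRingCat.ofHom φ.hom)) := by
    change IsPullback (f.fiberι t) f' f (Spec.map φ)
    rw [Spec.map_preimage]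
    exact IsPullback.of_hasPullback _ _
  haveI : IsProper f' := MorphismProperty.of_isPullback hsq (inferInstance : IsProper f)
  haveI : CompactSpace (f.fiber t) := QuasiCompact.compactSpace_of_compactSpace f'
  haveI : QuasiSeparatedSpace (f.fiber t) := quasiSeparatedSpace_of_quasiSeparated f'
  haveI : DCoh.HasRpush f' := KInj.hasRightDerivedFunctor _
  have hf' : DCoh.RpushPreservesQCoh f' := fun L hL =>
    GrothLib.KSix19.BettiExact.isQCohD_of_iso' ((rpushIsoRres f').app L).symm (isQCohD_Rres f' L hL)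
  haveI : (DCoh.RpushQ f' hf').IsLeftAdjoint := OX.isLeftAdjoint_lift_Rpush f' hf'
  let adj' := Adjunction.ofIsLeftAdjoint (DCoh.RpushQ f' hf')
  let W' : DCoh.DQCoh (Spec (CommRingCat.of κ)) := ⟨DCoh.inD _ (Coh.structureModule _),
    KSix19.RpushAmp.isQCohD_inD _ (inferInstanceAs (Coh.structureModule (Spec (CommRingCat.of κ))).IsQuasicoherent)⟩
  have hd' : ∀ s, topologicalKrullDim ↥(f.fiber s) ≤ (d : WithBot ℕ∞) :=
    fun s => GrothLib.FibPd.topologicalKrullDim_le_of_components fun Z hZ => (hd s Z hZ).le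
  exact ⟨_, isDualizingSheaf_adjoint f' rfl d
    (fun s => (GrothLib.FibreBC.topologicalKrullDim_fiber hsq s).le.trans (hd' _)) hf' adj' W' ⟨Iso.refl _⟩⟩

/-- **The canonical sheaf of a fibre of an `S₂` morphism.** -/
theorem fibre_data (d : ℕ) (hS : RelCanon.IsSkMor (Y ↘ Spec (CommRingCat.of A)) 2)
    (hd : Cyc.HasRelDim (Y ↘ Spec (CommRingCat.of A)) d) (t : ↥(Spec (CommRingCat.of A)))
    (ωt : ((Y ↘ Spec (CommRingCat.of A)).fiber t).Modules)
    (hωt : @RelCanon.IsDualizingSheaf ((Spec (CommRingCat.of A)).residueField t) _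
      ((Y ↘ Spec (CommRingCat.of A)).fiber t) ⟨(Y ↘ Spec (CommRingCat.of A)).fiberToSpecResidueField t⟩ d ωt) :
    Coh.IsCoh ωt ∧ Nonempty (RefHull.homSh ωt ωt ≅ Coh.structureModule _) ∧
      (∀ z, RelCanon.SkAt 2 ωt z) ∧ (∀ z, Nontrivial (ωt.presheaf.stalk z)) ∧
      ∀ z : (Y ↘ Spec (CommRingCat.of A)).fiber t,
        (2 : WithBot ℕ∞) ≤ ringKrullDim (((Y ↘ Spec (CommRingCat.of A)).fiber t).presheaf.stalk z) →
        (2 : ℕ∞) ≤ LocCoh.depth (((Y ↘ Spec (CommRingCat.of A)).fiber t).presheaf.stalk z) (ωt.presheaf.stalk z) := by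
  let f := Y ↘ Spec (CommRingCat.of A)
  haveI : LocallyOfFiniteType f := hS.2.1
  haveI : Flat f := hS.1
  haveI : IsLocallyNoetherian Y := LocallyOfFiniteType.isLocallyNoetherian f
  let κ := (Spec (CommRingCat.of A)).residueField t
  letI : (f.fiber t).Over (Spec (CommRingCat.of κ)) := ⟨f.fiberToSpecResidueField t⟩
  let f' : f.fiber t ⟶ Spec (CommRingCat.of κ) := f.fiberToSpecResidueField t
  let φ : CommRingCat.of A ⟶ κ := Spec.preimage ((Spec (CommRingCat.of A)).fromSpecResidueField t)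
  have hsq : IsPullback (f.fiberι t) ((f.fiber t) ↘ Spec (CommRingCat.of κ)) f (Spec.map (CommRingCat.ofHom φ.hom)) := by
    change IsPullback (f.fiberι t) f' f (Spec.map φ)
    rw [Spec.map_preimage]
    exact IsPullback.of_hasPullback _ _
  haveI : IsProper f' := MorphismProperty.of_isPullback hsq (inferInstance : IsProper f)
  haveI : IsProper ((f.fiber t) ↘ Spec (CommRingCat.of κ)) := (inferInstance : IsProper f')
  haveI : LocallyOfFiniteType f' := inferInstance
  haveI : IsLocallyNoetherian (f.fiber t) := LocallyOfFiniteType.isLocallyNoetherian f'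
  have hS' := isSkMor_of_isPullback hsq hS
  have hd₁ := GrothLib.CycFlat.hasRelDim_of_isPullback hsq hd
  have hc : Coh.IsCoh ωt := (exists_chart_ext (A := κ) d hS' hd₁ ωt hωt).1
  obtain ⟨hEnd⟩ := nonempty_homSh_dualizing_self_iso (A := κ) d hS' hd₁ ωt hωt
  have hne : ∀ z, Nontrivial (ωt.presheaf.stalk z) := fun z => by
    by_contra h
    rw [not_nontrivial_iff_subsingleton] at h
    haveI : Subsingleton (RefHull.StalkHom ωt ωt z) := ⟨fun a b => LinearMap.ext fun x => Subsingleton.elim _ _⟩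
    haveI : Subsingleton ((RefHull.homSh ωt ωt).presheaf.stalk z) :=
      (LinearEquiv.ofBijective (RefHull.evalStalk ωt ωt z)
        ((HomSh.hasRel_of_isCoh hc).evalStalk_bijective ωt z)).toEquiv.subsingleton
    exact not_subsingleton ((f.fiber t).presheaf.stalk z)
      (((HomSh.unitStalk z).trans (stalkIso hEnd z).symm).toEquiv.subsingleton)
  have hsk : ∀ z, RelCanon.SkAt 2 ωt z := fun z => by
    haveI : CompactSpace (f.fiber t) := QuasiCompact.compactSpace_of_compactSpace f'
    haveI : QuasiSeparatedSpace (f.fiber t) := quasiSeparatedSpace_of_quasiSeparated f'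
    haveI : DCoh.HasRpush f' := KInj.hasRightDerivedFunctor _
    have hf' : DCoh.RpushPreservesQCoh f' := fun L hL =>
      GrothLib.KSix19.BettiExact.isQCohD_of_iso' ((rpushIsoRres f').app L).symm (isQCohD_Rres f' L hL)
    haveI : (DCoh.RpushQ f' hf').IsLeftAdjoint := OX.isLeftAdjoint_lift_Rpush f' hf'
    let adj' := Adjunction.ofIsLeftAdjoint (DCoh.RpushQ f' hf')
    let W' : DCoh.DQCoh (Spec (CommRingCat.of κ)) := ⟨DCoh.inD _ (Coh.structureModule _),
      KSix19.RpushAmp.isQCohD_inD _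
        (inferInstanceAs (Coh.structureModule (Spec (CommRingCat.of κ))).IsQuasicoherent)⟩
    let K' := ((DCoh.RpushQ f' hf').rightAdjoint.obj W').obj
    have hd' : ∀ s, topologicalKrullDim ↥(f.fiber s) ≤ (d : WithBot ℕ∞) :=
      fun s => GrothLib.FibPd.topologicalKrullDim_le_of_components fun Z hZ => (hd s Z hZ).le
    obtain ⟨v⟩ := nonempty_iso_of_isDualizingSheaf
      (isDualizingSheaf_of_iso (eqToIso (by rw [zero_sub]) : DCoh.HD K' (0 - (d : ℤ)) ≅ DCoh.HD K' (-(d : ℤ)))
        (isDualizingSheaf_adjoint f' rfl d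
          (fun s => (GrothLib.FibreBC.topologicalKrullDim_fiber hsq s).le.trans (hd' _)) hf' adj' W' ⟨Iso.refl _⟩)) hωt
    have htop : topologicalKrullDim ↥(f.fiber t) = (d : WithBot ℕ∞) := by
      refine le_antisymm (hd' t) ?_
      have hc := irreducibleComponent_mem_irreducibleComponents z
      rw [← hd t _ hc]
      exact topologicalKrullDim_subspace_le _ _
    haveI : ∀ R : CommRingCat.{u}, PreservesFiniteLimits (tilde.functor R) := fun R =>
      OX.preservesFiniteLimits_tildeGen _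
    have h := GrothLib.ShriekBridge22.hasSk_two_adjoint f' hf' adj' W' ⟨Iso.refl _⟩ d htop z
    haveI : Module.Finite ((f.fiber t).presheaf.stalk z) ((DCoh.HD K' (-(d : ℤ))).presheaf.stalk z) := by
      haveI : Module.Finite ((f.fiber t).presheaf.stalk z) (ωt.presheaf.stalk z) := QuasiFlat.finite_stalk _ hc z
      exact Module.Finite.equiv (stalkIso v z).symm
    exact GrothLib.SkExt.hasSk_congr (stalkIso v z) h
  refine ⟨hc, ⟨hEnd⟩, hsk, hne, fun z hz => ?_⟩
  haveI : Module.Finite ((f.fiber t).presheaf.stalk z) (ωt.presheaf.stalk z) := QuasiFlat.finite_stalk _ hc z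
  exact two_le_depth_of_hasSk (support_stalk_eq_univ hc hne z) hz (hsk z)

/-- **The relative canonical sheaf has depth two where the fibres have dimension two.** -/
theorem two_le_depth_omega (d : ℕ) (hS : RelCanon.IsSkMor (Y ↘ Spec (CommRingCat.of A)) 2)
    (hd : Cyc.HasRelDim (Y ↘ Spec (CommRingCat.of A)) d) (ω : Y.Modules) (hω : RelCanon.IsDualizingSheaf A Y d ω)
    (x : Y) (hx : (2 : WithBot ℕ∞) ≤ ringKrullDim (((Y ↘ Spec (CommRingCat.of A)).fiber
      ((Y ↘ Spec (CommRingCat.of A)) x)).presheaf.stalk ((Y ↘ Spec (CommRingCat.of A)).asFiber x))) :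
    (2 : ℕ∞) ≤ LocCoh.depth (Y.presheaf.stalk x) (ω.presheaf.stalk x) := by
  let f := Y ↘ Spec (CommRingCat.of A)
  haveI : Flat f := hS.1
  haveI : LocallyOfFiniteType f := hS.2.1
  haveI : LocallyOfFinitePresentation f := GrothLib.LocProp.locallyOfFinitePresentation_of_isLocallyNoetherian f
  haveI : IsLocallyNoetherian Y := LocallyOfFiniteType.isLocallyNoetherian f
  have hd' : ∀ s, topologicalKrullDim ↥(f.fiber s) ≤ (d : WithBot ℕ∞) :=
    fun s => GrothLib.FibPd.topologicalKrullDim_le_of_components fun Z hZ => (hd s Z hZ).le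
  obtain ⟨U, hUeq⟩ : ∃ U : Y.Opens, ∀ y, y ∈ U ↔ MoreMor.IsCMAt f y :=
    ⟨⟨{y | MoreMor.IsCMAt f y}, Groth.Agent.S4961.result f⟩, fun _ => Iff.rfl⟩
  obtain ⟨hωc, -⟩ := exists_chart_ext d hS hd ω hω
  by_cases hxU : x ∈ U
  · obtain ⟨hfl, hbc⟩ := cm_data d hS hd ω hω U hUeq
    obtain ⟨ωt, hωt⟩ := exists_fibre_dualizing d hd (f x)
    obtain ⟨hc, -, -, hne, hdep⟩ := fibre_data d hS hd (f x) ωt hωt
    obtain ⟨eW⟩ := hbc (f x) ωt hωt
    let z := f.asFiber x
    have hz : f.fiberι (f x) z = x := f.fiberι_asFiber x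
    obtain ⟨e₂⟩ := nonempty_stalk_of_restrict (f.fiberι (f x) ⁻¹ᵁ U) eW z (show f.fiberι (f x) z ∈ U by rw [hz]; exact hxU)
    haveI := hne z
    have hn : Nontrivial (((Scheme.Modules.pullback (f.fiberι (f x))).obj ω).presheaf.stalk z) :=
      e₂.toEquiv.nontrivial
    haveI : IsNoetherianRing ((f.fiber (f x)).presheaf.stalk z) := GrothLib.DimCut.isNoetherianRing_stalk_fiber f _ _
    haveI : Module.Finite ((f.fiber (f x)).presheaf.stalk z) (ωt.presheaf.stalk z) := QuasiFlat.finite_stalk _ hc z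
    haveI : Module.Finite ((f.fiber (f x)).presheaf.stalk z)
        (((Scheme.Modules.pullback (f.fiberι (f x))).obj ω).presheaf.stalk z) := Module.Finite.equiv e₂.symm
    have h2 : (2 : ℕ∞) ≤ LocCoh.depth ((f.fiber (f x)).presheaf.stalk z)
        (((Scheme.Modules.pullback (f.fiberι (f x))).obj ω).presheaf.stalk z) :=
      le_of_le_of_eq (hdep z hx) (GrothLib.Depth.idealDepth_eq_of_equiv _ e₂).symm
    have h := two_le_depth_of_flat_fibre f hωc (f x) z (by rw [hz]; exact hfl x hxU) h2 hn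
    rwa [hz] at h
  · exact two_le_depth_dualizing d hd' U (fun y hy => two_le_dim_of_not_cm f hS y fun h => hy ((hUeq y).2 h)) hω hωc x hxU

end GrothLib.ExtSplit20

end
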