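import Groth.Agent.Lib.DualFree20.RefLocal
import Groth.Agent.Lib.DualTensor11.Basic
import Groth.Agent.Lib.DualFree20.IndexLocal
import Groth.Agent.Lib.GeomSS.Setup

/-!
# Double duals and tensor powers of products with an invertible module
-/

set_option autoImplicit false
set_option linter.all false
set_option backward.isDefEq.respectTransparency false
set_option maxHeartbeats 1600000
set_option synthInstance.maxHeartbeats 200000

universe u

open CategoryTheory CategoryTheory.Limits AlgebraicGeometry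

noncomputable section

namespace GrothLib.ExtSplit20

open GrothLib.OX GrothLib.DualFree20 GrothLib.LocFreeHom

attribute [local instance] LocFreeHom.hasSheafHom

variable {X : Scheme.{u}} [IsLocallyNoetherian X]

/-- The dual as an internal Hom, for coherent modules. -/
theorem nonempty_dual_iso_iHom_coh {F : X.Modules} (hF : Coh.IsCoh F) :
    Nonempty (RefHull.dual F ≅ LocFreeHom.iHom F (Coh.structureModule X)) :=
  LM28.nonempty_homSh_iso_coh F _ hF (HomSh.isCoh_structureModule X)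

/-- Duals of isomorphic coherent modules. -/
theorem nonempty_dual_congr {F G : X.Modules} (e : F ≅ G) (hF : Coh.IsCoh F) :
    Nonempty (RefHull.dual F ≅ RefHull.dual G) := by
  obtain ⟨a⟩ := nonempty_dual_iso_iHom_coh hF
  obtain ⟨b⟩ := nonempty_dual_iso_iHom_coh (QCoh.isCoh_of_iso e hF)
  exact ⟨a ≪≫ LocFreeHom.iHomCongr e.symm (Iso.refl _) ≪≫ b.symm⟩

/-- Double duals of isomorphic coherent modules. -/
theorem nonempty_ddual_congr {F G : X.Modules} (e : F ≅ G) (hF : Coh.IsCoh F) :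
    Nonempty (RefHull.ddual F ≅ RefHull.ddual G) := by
  obtain ⟨a⟩ := nonempty_dual_congr e hF
  exact nonempty_dual_congr a (isCoh_dual' hF)

/-- Duals of coherent modules commute with restriction. -/
theorem nonempty_dual_restrict_coh {M : X.Modules} (hM : Coh.IsCoh M) (U : X.Opens) :
    Nonempty ((RefHull.dual M).restrict U.ι ≅ RefHull.dual (M.restrict U.ι)) := by
  haveI : IsLocallyNoetherian (U : Scheme.{u}) := LocallyOfFiniteType.isLocallyNoetherian U.ι
  have hMU : Coh.IsCoh (M.restrict U.ι) := Cohom.isCoh_restrict _ hM U.ι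
  obtain ⟨a⟩ := nonempty_homSh_restrict U.ι hM (HomSh.isCoh_structureModule X)
  obtain ⟨b⟩ := LM28.nonempty_homSh_iso_coh (M.restrict U.ι) ((Coh.structureModule X).restrict U.ι) hMU
    (Cohom.isCoh_restrict _ (HomSh.isCoh_structureModule X) U.ι)
  obtain ⟨c⟩ := nonempty_dual_iso_iHom_coh hMU
  exact ⟨(Scheme.Modules.restrictFunctorIsoPullback U.ι).app _ ≪≫ a ≪≫ b ≪≫
    LocFreeHom.iHomCongr (Iso.refl _) (DualRing.restrictStructureIso U.ι) ≪≫ c.symm⟩

/-- Double duals of coherent modules commute with restriction. -/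
theorem nonempty_ddual_restrict_coh {M : X.Modules} (hM : Coh.IsCoh M) (U : X.Opens) :
    Nonempty ((RefHull.ddual M).restrict U.ι ≅ RefHull.ddual (M.restrict U.ι)) := by
  haveI : IsLocallyNoetherian (U : Scheme.{u}) := LocallyOfFiniteType.isLocallyNoetherian U.ι
  obtain ⟨a⟩ := nonempty_dual_restrict_coh (isCoh_dual' hM) U
  obtain ⟨b⟩ := nonempty_dual_restrict_coh hM U
  obtain ⟨c⟩ := nonempty_dual_congr b (Cohom.isCoh_restrict _ (isCoh_dual' hM) U.ι)
  exact ⟨a ≪≫ c⟩

/-- The dual of a product with a vector bundle. -/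
theorem nonempty_dual_tensor_coh {A B : X.Modules} (hA : Coh.IsCoh A) (hB : FlatMod.IsFinLocFree B) :
    Nonempty (RefHull.dual (CohB1.tensorMod A B) ≅ CohB1.tensorMod (RefHull.dual A) (RefHull.dual B)) := by
  obtain ⟨e⟩ := nonempty_dual_iso_iHom_coh (TensorPerf20.isCoh_tensor hA (Euler.isCoh_of_isFinLocFree hB))
  obtain ⟨a⟩ := nonempty_dual_iso_iHom_coh hA
  obtain ⟨b⟩ := DualTensor11.nonempty_dual_iso_iHom hB
  haveI := LocFreeDual20.isIso_θ hB (LocFreeHom.iHom A (Coh.structureModule X))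
  exact ⟨e ≪≫ (DualTensor11.sheafHomTensorIso A B).app _ ≪≫
    (asIso (LocFreeDual20.θ B (LocFreeHom.iHom A (Coh.structureModule X)))).symm ≪≫
    WeilFin11.congrIso a.symm b.symm⟩

/-- The double dual of a product with an invertible module. -/
theorem nonempty_ddual_tensor_inv {F Λ : X.Modules} (hF : Coh.IsCoh F) (hΛ : PicF.IsInvertible Λ) :
    Nonempty (RefHull.ddual (CohB1.tensorMod F Λ) ≅ CohB1.tensorMod (RefHull.ddual F) Λ) := by
  have hl := LocFreeHom.isFinLocFree_of_isInvertible hΛ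
  obtain ⟨a⟩ := nonempty_dual_tensor_coh hF hl
  obtain ⟨b⟩ := nonempty_dual_congr a (isCoh_dual' (TensorPerf20.isCoh_tensor hF (Euler.isCoh_of_isFinLocFree hl)))
  obtain ⟨c⟩ := nonempty_dual_tensor_coh (isCoh_dual' hF) (DualTensor11.isFinLocFree_dual hl)
  obtain ⟨d⟩ := DualTensor11.nonempty_ddual hl
  exact ⟨b ≪≫ c ≪≫ Ample.LineData.tensorModMapIso (Iso.refl _) d.symm⟩

omit [IsLocallyNoetherian X] in
/-- The product is symmetric. -/
theorem nonempty_tensorMod_comm (A B : X.Modules) : Nonempty (CohB1.tensorMod A B ≅ CohB1.tensorMod B A) :=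
  ⟨((OX.tensorBraiding.app B).app A)⟩

omit [IsLocallyNoetherian X] in
/-- Tensor powers of a product. -/
theorem nonempty_tensorPow_mul (A B : X.Modules) : ∀ n : ℕ,
    Nonempty (CohB1.tensorPow (CohB1.tensorMod A B) n ≅
      CohB1.tensorMod (CohB1.tensorPow A n) (CohB1.tensorPow B n))
  | 0 => ⟨(OX.tensorUnitLeftIso (Coh.structureModule X)).symm⟩
  | n + 1 => by
    obtain ⟨e⟩ := nonempty_tensorPow_mul A B n
    let P := CohB1.tensorPow A n
    let Q := CohB1.tensorPow B n
    obtain ⟨c⟩ := nonempty_tensorMod_comm Q A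
    exact ⟨Ample.LineData.tensorModMapIso e (Iso.refl _) ≪≫ OX.tensorAssoc P Q (CohB1.tensorMod A B) ≪≫
      Ample.LineData.tensorModMapIso (Iso.refl P) ((OX.tensorAssoc Q A B).symm ≪≫
        Ample.LineData.tensorModMapIso c (Iso.refl B) ≪≫ OX.tensorAssoc A Q B) ≪≫
      (OX.tensorAssoc P A (CohB1.tensorMod Q B)).symm⟩

/-- **The reflexive power of `L ⊗ W` over an open where `W` is invertible.** -/
theorem nonempty_refPow_mul_restrict {L W G : X.Modules} (hL : Coh.IsCoh L) (hG : Coh.IsCoh G)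
    (V : X.Opens) (hW : PicF.IsInvertible (W.restrict V.ι))
    (e : G.restrict V.ι ≅ CohB1.tensorMod (L.restrict V.ι) (W.restrict V.ι)) (r : ℕ) :
    Nonempty ((RelCanon.refPowZ G (r : ℤ)).restrict V.ι ≅
      CohB1.tensorMod (CohB1.tensorPow (W.restrict V.ι) r) ((RelCanon.refPowZ L (r : ℤ)).restrict V.ι)) := by
  haveI : IsLocallyNoetherian (V : Scheme.{u}) := LocallyOfFiniteType.isLocallyNoetherian V.ι
  obtain ⟨a⟩ := CurveSerre11.pullback_tensorPow V.ι G r
  obtain ⟨a'⟩ := GeomSS.nonempty_tensorPow_congr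
    (((Scheme.Modules.restrictFunctorIsoPullback V.ι).app G).symm ≪≫ e) r
  obtain ⟨b⟩ := CurveSerre11.pullback_tensorPow V.ι L r
  obtain ⟨b'⟩ := GeomSS.nonempty_tensorPow_congr ((Scheme.Modules.restrictFunctorIsoPullback V.ι).app L).symm r
  obtain ⟨m⟩ := nonempty_tensorPow_mul (L.restrict V.ι) (W.restrict V.ι) r
  have hGr : Coh.IsCoh (CohB1.tensorPow G r) := isCoh_tensorPow' hG r
  have hLr : Coh.IsCoh (CohB1.tensorPow L r) := isCoh_tensorPow' hL r
  obtain ⟨d⟩ := nonempty_ddual_restrict_coh hGr V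
  obtain ⟨d'⟩ := nonempty_ddual_congr ((Scheme.Modules.restrictFunctorIsoPullback V.ι).app _ ≪≫ a ≪≫ a' ≪≫ m)
    (Cohom.isCoh_restrict _ hGr V.ι)
  obtain ⟨t⟩ := nonempty_ddual_tensor_inv (isCoh_tensorPow' (Cohom.isCoh_restrict _ hL V.ι) r)
    (PerfLim10.isInvertible_tensorPow hW r)
  obtain ⟨q⟩ := nonempty_ddual_restrict_coh hLr V
  obtain ⟨q'⟩ := nonempty_ddual_congr ((Scheme.Modules.restrictFunctorIsoPullback V.ι).app _ ≪≫ b ≪≫ b')
    (Cohom.isCoh_restrict _ hLr V.ι)
  obtain ⟨c⟩ := nonempty_tensorMod_comm ((RelCanon.refPowZ L (r : ℤ)).restrict V.ι)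
    (CohB1.tensorPow (W.restrict V.ι) r)
  exact ⟨d ≪≫ d' ≪≫ t ≪≫
    Ample.LineData.tensorModMapIso (q ≪≫ q').symm (Iso.refl _) ≪≫ c⟩

end GrothLib.ExtSplit20

end
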