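import Groth.Agent.Lib.ExtSplit20.Tools28
import Groth.Agent.Lib.ExtSplit20.Tensor28
import Groth.Agent.Lib.ArtCrit20.SkOpen
import Groth.Agent.Lib.CohGab9.Basic

/-!
# A flat lift of the canonical sheaf of a fibre
-/

set_option autoImplicit false
set_option linter.all false
set_option backward.isDefEq.respectTransparency false
set_option maxHeartbeats 4000000
set_option synthInstance.maxHeartbeats 200000

universe u

open CategoryTheory CategoryTheory.Limits AlgebraicGeometry TopologicalSpace Opposite IsLocalRing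
attribute [local instance] HasDerivedCategory.standard

noncomputable section

namespace GrothLib.ExtSplit20

open GrothLib.OX GrothLib.DualFree20 GrothLib.RightAdj22 GrothLib.ArtCrit20

/-- The invertible locus is open. -/
theorem isOpen_invertibleAt {X : Scheme.{u}} (W : X.Modules) : IsOpen {x : X | RelCanon.InvertibleAt W x} := by
  refine isOpen_iff_forall_mem_open.2 fun x hx => ?_
  obtain ⟨T, hxT, he⟩ := hx
  exact ⟨T, fun x' hx' => ⟨T, hx', he⟩, T.2, hxT⟩

variable {A : Type u} [CommRing A] [IsNoetherianRing A] {Y : Scheme.{u}} [Y.Over (Spec (CommRingCat.of A))]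
  [IsProper (Y ↘ Spec (CommRingCat.of A))]



/-- A reflexive sheaf of homomorphisms near a point where the bad set has codimension two. -/
theorem homSh_local (d : ℕ) (hS : RelCanon.IsSkMor (Y ↘ Spec (CommRingCat.of A)) 2)
    (hd : Cyc.HasRelDim (Y ↘ Spec (CommRingCat.of A)) d) (ω : Y.Modules) (hω : RelCanon.IsDualizingSheaf A Y d ω)
    (L : Y.Modules) (hL : Coh.IsCoh L) (V : Y.Opens)
    (hV : PicF.IsInvertible ((RefHull.homSh L ω).restrict V.ι)) (y : Y)
    (hcod : ∀ x : Y, (Y ↘ Spec (CommRingCat.of A)) x = (Y ↘ Spec (CommRingCat.of A)) y → x ∉ V →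
      (2 : WithBot ℕ∞) ≤ ringKrullDim (((Y ↘ Spec (CommRingCat.of A)).fiber
        ((Y ↘ Spec (CommRingCat.of A)) x)).presheaf.stalk ((Y ↘ Spec (CommRingCat.of A)).asFiber x))) :
    ∃ N : Y.Opens, y ∈ N ∧
      (∀ x ∈ N, x ∉ V → (2 : WithBot ℕ∞) ≤ ringKrullDim (((Y ↘ Spec (CommRingCat.of A)).fiber
        ((Y ↘ Spec (CommRingCat.of A)) x)).presheaf.stalk ((Y ↘ Spec (CommRingCat.of A)).asFiber x))) ∧
      Nonempty ((RefHull.homSh L ω).restrict N.ι ≅ (RefHull.ddual (RefHull.homSh L ω)).restrict N.ι) := by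
  let f := Y ↘ Spec (CommRingCat.of A)
  haveI : Flat f := hS.1
  haveI : LocallyOfFiniteType f := hS.2.1
  haveI : LocallyOfFinitePresentation f := GrothLib.LocProp.locallyOfFinitePresentation_of_isLocallyNoetherian f
  haveI : IsLocallyNoetherian Y := LocallyOfFiniteType.isLocallyNoetherian f
  obtain ⟨hωc, -⟩ := exists_chart_ext d hS hd ω hω
  haveI : IsNoetherianRing ((f.fiber (f y)).presheaf.stalk (f.asFiber y)) :=
    GrothLib.DimCut.isNoetherianRing_stalk_fiber f _ _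
  haveI : Module.Finite ((f.fiber (f y)).presheaf.stalk (f.asFiber y))
      ((Coh.structureModule (f.fiber (f y))).presheaf.stalk (f.asFiber y)) :=
    Module.Finite.equiv (GrothLib.HomSh.unitStalk (X := f.fiber (f y)) (f.asFiber y))
  obtain ⟨N, -, hyN, -, -, hN⟩ := GrothLib.SkNhd1.exists_nhd f 2 le_rfl y
    (GrothLib.SkExt.hasSk_congr (GrothLib.HomSh.unitStalk (X := f.fiber (f y)) (f.asFiber y)).symm (hS.2.2 y)) V 2
    (fun w hw hwU _ => hcod w hw hwU)
  refine ⟨N, hyN, hN, ?_⟩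
  let W := RefHull.homSh L ω
  have hWc : Coh.IsCoh W := HomSh.isCoh_homSh (HomSh.hasRel_of_isCoh hL) hωc
  have hDc := isCoh_ddual' hWc
  obtain ⟨e⟩ := nonempty_ddual_restrict V hV
  obtain ⟨pr⟩ := AlmostAmple24.nonempty_pullback_restrict N.ι V W
  obtain ⟨pr'⟩ := AlmostAmple24.nonempty_pullback_restrict N.ι V (RefHull.ddual W)
  haveI : IsLocallyNoetherian (N : Scheme.{u}) := LocallyOfFiniteType.isLocallyNoetherian N.ι
  obtain ⟨eN⟩ := nonempty_iso_of_restrict (ModDesc.isCoh_pullback N.ι _ hWc) (ModDesc.isCoh_pullback N.ι _ hDc)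
    (N.ι ⁻¹ᵁ V)
    (fun w hw => by
      letI := (N.ι.stalkMap w).hom.toAlgebra
      rw [GrothLib.DepthAlong.depth_pullback_stalk N.ι _ hWc w]
      exact (two_le_depth_homSh hL hωc _ (two_le_depth_omega d hS hd ω hω _ (hN _ w.2 hw))).trans le_self_add)
    (fun w hw => by
      letI := (N.ι.stalkMap w).hom.toAlgebra
      rw [GrothLib.DepthAlong.depth_pullback_stalk N.ι _ hDc w]
      exact (two_le_depth_ddual hWc _ (two_le_depth_of_fibre f hS _ (hN _ w.2 hw))).trans le_self_add)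
    (pr ≪≫ (Scheme.Modules.pullback (N.ι ∣_ V)).mapIso e.symm ≪≫ pr'.symm)
  exact ⟨(Scheme.Modules.restrictFunctorIsoPullback N.ι).app W ≪≫ eN ≪≫
    ((Scheme.Modules.restrictFunctorIsoPullback N.ι).app _).symm⟩

/-- The case of a reflexive root. -/
theorem invertibleAt_homSh_root (d : ℕ) (hS : RelCanon.IsSkMor (Y ↘ Spec (CommRingCat.of A)) 2)
    (hd : Cyc.HasRelDim (Y ↘ Spec (CommRingCat.of A)) d) (ω : Y.Modules) (hω : RelCanon.IsDualizingSheaf A Y d ω)
    (L : Y.Modules) (hL : Coh.IsCoh L)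
    (ε : CohB1.tensorMod L (RefHull.homSh L ω) ⟶ ω) (t : ↥(Spec (CommRingCat.of A))) (U₀ : Y.Opens)
    (hU₀W : PicF.IsInvertible ((RefHull.homSh L ω).restrict U₀.ι))
    (hU₀E : ∀ x ∈ U₀, Function.Bijective (QCoh.stalkLin ε x))
    (hcod2 : (∀ x : Y, (Y ↘ Spec (CommRingCat.of A)) x = t → x ∉ U₀ →
      (2 : WithBot ℕ∞) ≤ ringKrullDim (((Y ↘ Spec (CommRingCat.of A)).fiber
        ((Y ↘ Spec (CommRingCat.of A)) x)).presheaf.stalk ((Y ↘ Spec (CommRingCat.of A)).asFiber x))))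
    (r₀ : ℕ) (hrk : ((r₀ + 1 : ℕ) : (Spec (CommRingCat.of A)).residueField t) ≠ 0)
    (hinvs : ∀ y : Y, (Y ↘ Spec (CommRingCat.of A)) y = t →
      RelCanon.InvertibleAt (RelCanon.refPowZ L ((r₀ + 1 : ℕ) : ℤ)) y ∧
        RelCanon.InvertibleAt (RelCanon.refPowZ ω ((r₀ + 1 : ℕ) : ℤ)) y)
    (z : (Y ↘ Spec (CommRingCat.of A)).fiber t)
    (hDi : RelCanon.InvertibleAt (RefHull.ddual ((Scheme.Modules.pullback ((Y ↘ Spec (CommRingCat.of A)).fiberι t)).obj (RefHull.homSh L ω))) z) :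
    RelCanon.InvertibleAt (RefHull.homSh L ω) (((Y ↘ Spec (CommRingCat.of A)).fiberι t) z) := by
  classical
  let f := Y ↘ Spec (CommRingCat.of A)
  haveI : Flat f := hS.1
  haveI : LocallyOfFiniteType f := hS.2.1
  haveI : LocallyOfFinitePresentation f := GrothLib.LocProp.locallyOfFinitePresentation_of_isLocallyNoetherian f
  haveI : IsLocallyNoetherian Y := LocallyOfFiniteType.isLocallyNoetherian f
  haveI : LocallyOfFiniteType (f.fiberToSpecResidueField t) :=
    MorphismProperty.pullback_snd _ _ (inferInstance : LocallyOfFiniteType f)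
  let Yt := f.fiber t
  haveI : IsLocallyNoetherian Yt := LocallyOfFiniteType.isLocallyNoetherian (f.fiberToSpecResidueField t)
  let ι := f.fiberι t
  obtain ⟨hωc, -⟩ := exists_chart_ext d hS hd ω hω
  let W := RefHull.homSh L ω
  have hWc : Coh.IsCoh W := HomSh.isCoh_homSh (HomSh.hasRel_of_isCoh hL) hωc
  have hmem : ∀ z : Yt, f (ι z) = t := fun z =>
    (f.range_fiberι t ▸ Set.mem_range_self z : f.fiberι t z ∈ f ⁻¹' {t})
  have hIopen : IsOpen {x : Y | RelCanon.InvertibleAt W x} := isOpen_invertibleAt W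
  let Lr := RelCanon.refPowZ L ((r₀ + 1 : ℕ) : ℤ)
  have hAopen : IsOpen {x : Y | RelCanon.InvertibleAt Lr x} := isOpen_invertibleAt Lr
  let V : Y.Opens := U₀ ⊓ ⟨{x : Y | RelCanon.InvertibleAt Lr x}, hAopen⟩
  have hVW : PicF.IsInvertible (W.restrict V.ι) := isInvertible_restrict_of_invertibleAt V fun x hx => invertibleAt_of_restrict U₀ hU₀W x hx.1
  have hVL : PicF.IsInvertible (Lr.restrict V.ι) := isInvertible_restrict_of_invertibleAt V fun x hx => hx.2
  have hcodV : ∀ x : Y, f x = t → x ∉ V →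
      (2 : WithBot ℕ∞) ≤ ringKrullDim ((f.fiber (f x)).presheaf.stalk (f.asFiber x)) := fun x hx hn =>
    hcod2 x hx fun h => hn ⟨h, (hinvs x hx).1⟩
  obtain ⟨N, hyN, hN, ⟨eN⟩⟩ := homSh_local d hS hd ω hω L hL V hVW (ι z)
    (fun x hx => hcodV x (hx.trans (hmem z)))
  have hO : ∀ x, x ∈ N → x ∉ V → (2 : ℕ∞) ≤ LocCoh.depth (Y.presheaf.stalk x) (Y.presheaf.stalk x) :=
    fun x hx hn => two_le_depth_of_fibre f hS x (hN x hx hn)
  haveI : IsIso ((Scheme.Modules.restrictFunctor V.ι).map ε) :=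
    Ref1.isIso_restrict_of_bijective ε V fun x hx => hU₀E x hx.1
  let eG : ω.restrict V.ι ≅ CohB1.tensorMod (L.restrict V.ι) (W.restrict V.ι) :=
    (asIso ((Scheme.Modules.restrictFunctor V.ι).map ε)).symm ≪≫
      (Scheme.Modules.restrictFunctorIsoPullback V.ι).app _ ≪≫ OX.pullTensorIso V.ι L W ≪≫
      Ample.LineData.tensorModMapIso ((Scheme.Modules.restrictFunctorIsoPullback V.ι).app L).symm
        ((Scheme.Modules.restrictFunctorIsoPullback V.ι).app W).symm
  obtain ⟨eC⟩ := nonempty_refPow_mul_restrict hL hωc V hVW eG (r₀ + 1)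
  obtain ⟨eWr⟩ := nonempty_refPow_restrict V hVW (r₀ + 1)
  obtain ⟨HN, hHN, heN⟩ := exists_ddual_refPowZ hWc ((r₀ + 1 : ℕ) : ℤ)
  have hWr : RelCanon.InvertibleAt (RelCanon.refPowZ W ((r₀ + 1 : ℕ) : ℤ)) (ι z) :=
    invertibleAt_quot (isCoh_refPowZ hL _) (isCoh_refPowZ hωc _) hHN heN V N hVL
      (PerfLim10.isInvertible_tensorPow hVW _) (Iso.refl _) eC eWr hO hyN
      (hinvs _ (hmem z)).1 (hinvs _ (hmem z)).2
  have h1 := invertibleAt_of_root f hS W hWc V hVW t z hcodV hDi r₀ hrk hWr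
  obtain ⟨e₁⟩ := nonempty_refPow_restrict V hVW 1
  obtain ⟨d₁⟩ := nonempty_ddual_restrict V hVW
  obtain ⟨H₁, hH₁, hh₁⟩ := exists_ddual_refPowZ hWc ((1 : ℕ) : ℤ)
  have hone : ∀ (M : (V : Scheme.{u}).Modules), Nonempty (CohB1.tensorPow M 1 ≅ M) := fun M =>
    ⟨OX.tensorUnitLeftIso M⟩
  obtain ⟨u₁⟩ := hone (W.restrict V.ι)
  have h2 : RelCanon.InvertibleAt (RefHull.ddual W) (ι z) :=
    invertibleAt_of_agree (M := RelCanon.refPowZ W ((1 : ℕ) : ℤ)) (N := RefHull.ddual W) hH₁ hWc hh₁ rfl V N hO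
      (e₁ ≪≫ u₁ ≪≫ d₁.symm) hyN h1
  exact invertibleAt_congr_open (M := W) (N := RefHull.ddual W) N eN hyN h2

end GrothLib.ExtSplit20

end
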