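import Groth.Agent.Lib.ExtSplit20.Tools28
import Groth.Agent.Lib.ExtSplit20.Tensor28
import Groth.Agent.Lib.ArtCrit20.SkOpen
import Groth.Agent.Lib.CohGab9.Basic
import Groth.Agent.Lib.ExtSplit20.Lift28Local

/-!
# A flat lift of the canonical sheaf of a fibre
-/

set_option autoImplicit false
set_option linter.all false
set_option backward.isDefEq.respectTransparency false
set_option maxHeartbeats 4000000
set_option synthInstance.maxHeartbeats 200000

universe u

open CategoryTheory CategoryTheory.Limits AlgebraicGeometry TopologicalSpace Opposite IsLocalRing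
attribute [local instance] HasDerivedCategory.standard

noncomputable section

namespace GrothLib.ExtSplit20

open GrothLib.OX GrothLib.DualFree20 GrothLib.RightAdj22 GrothLib.ArtCrit20

variable {A : Type u} [CommRing A] [IsNoetherianRing A] {Y : Scheme.{u}} [Y.Over (Spec (CommRingCat.of A))]
  [IsProper (Y ↘ Spec (CommRingCat.of A))]

/-- The evaluation is bijective along the fibre. -/
theorem bijective_ev (d : ℕ) (hS : RelCanon.IsSkMor (Y ↘ Spec (CommRingCat.of A)) 2)
    (hd : Cyc.HasRelDim (Y ↘ Spec (CommRingCat.of A)) d) (ω : Y.Modules) (hω : RelCanon.IsDualizingSheaf A Y d ω)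
    (L : Y.Modules) (hL : Coh.IsCoh L)
    (t : ↥(Spec (CommRingCat.of A))) (ε : CohB1.tensorMod L (RefHull.homSh L ω) ⟶ ω) (U₀ : Y.Opens)
    (hU₀W : PicF.IsInvertible ((RefHull.homSh L ω).restrict U₀.ι))
    (hU₀E : ∀ x ∈ U₀, Function.Bijective (QCoh.stalkLin ε x))
    (hcod2 : (∀ x : Y, (Y ↘ Spec (CommRingCat.of A)) x = t → x ∉ U₀ →
      (2 : WithBot ℕ∞) ≤ ringKrullDim (((Y ↘ Spec (CommRingCat.of A)).fiber
        ((Y ↘ Spec (CommRingCat.of A)) x)).presheaf.stalk ((Y ↘ Spec (CommRingCat.of A)).asFiber x))))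
    (hinv : ∀ y : Y, (Y ↘ Spec (CommRingCat.of A)) y = t → RelCanon.InvertibleAt (RefHull.homSh L ω) y)
    (hskL : ∀ y : Y, (Y ↘ Spec (CommRingCat.of A)) y = t → RelCanon.RelSkAt (Y ↘ Spec (CommRingCat.of A)) 2 L y) :
    ∀ y : Y, (Y ↘ Spec (CommRingCat.of A)) y = t → Function.Bijective (QCoh.stalkLin ε y) := by
  classical
  let f := Y ↘ Spec (CommRingCat.of A)
  haveI : Flat f := hS.1
  haveI : LocallyOfFiniteType f := hS.2.1
  haveI : LocallyOfFinitePresentation f := GrothLib.LocProp.locallyOfFinitePresentation_of_isLocallyNoetherian f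
  haveI : IsLocallyNoetherian Y := LocallyOfFiniteType.isLocallyNoetherian f
  obtain ⟨hωc, -⟩ := exists_chart_ext d hS hd ω hω
  obtain ⟨eEndY⟩ := nonempty_homSh_dualizing_self_iso d hS hd ω hω
  have hEnd : ∀ y : Y, Function.Bijective (LinearMap.lsmul (Y.presheaf.stalk y) (ω.presheaf.stalk y)) := fun y =>
    bijective_lsmul_of_equiv ((LinearEquiv.ofBijective (RefHull.evalStalk ω ω y)
      ((HomSh.hasRel_of_isCoh hωc).evalStalk_bijective ω y)).symm ≪≫ₗ stalkIso eEndY y ≪≫ₗ (HomSh.unitStalk y).symm)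
  let W := RefHull.homSh L ω
  have hWc : Coh.IsCoh W := HomSh.isCoh_homSh (HomSh.hasRel_of_isCoh hL) hωc
  have hLWc : Coh.IsCoh (CohB1.tensorMod L W) := isCoh_tensorMod' hL hWc
  have hIopen : IsOpen {x : Y | RelCanon.InvertibleAt W x} := isOpen_invertibleAt W
  have hFP : CohB1.IsFP L := GrothLib.FibReg5.isFP_of_isCoh hL
  intro y hy
  obtain ⟨N, hyN, hN, -⟩ := homSh_local d hS hd ω hω L hL U₀ hU₀W y (fun x hx => hcod2 x (hx.trans hy))
  let O₂ : Y.Opens := ⟨{x : Y | RelCanon.RelSkAt f 2 L x}, isOpen_relSkAt f L hFP 2⟩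
  let N' : Y.Opens := N ⊓ O₂ ⊓ ⟨{x : Y | RelCanon.InvertibleAt W x}, hIopen⟩
  have hyN' : y ∈ N' := ⟨⟨hyN, hskL y hy⟩, hinv y hy⟩
  have hLne : ∀ x ∈ N', Nontrivial (L.presheaf.stalk x) := by
    intro x hx
    by_contra hsub
    rw [not_nontrivial_iff_subsingleton] at hsub
    let Z : Y.Opens := ⟨(CohB1.support L)ᶜ, (QCoh.isClosed_support_of_isCoh hL).isOpen_compl⟩
    have hxZ : x ∈ Z := fun hs => hs hsub
    haveI : LocallyOfFiniteType (f.fiberToSpecResidueField (f x)) :=
      MorphismProperty.pullback_snd _ _ (inferInstance : LocallyOfFiniteType f)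
    obtain ⟨η, hη⟩ := QuasiSober.sober (irreducibleComponent_mem_irreducibleComponents (f.asFiber x)).1
      isClosed_irreducibleComponent
    have hsp : η ⤳ f.asFiber x := hη.specializes mem_irreducibleComponent
    have hsp' : f.fiberι (f x) η ⤳ x := by
      have := hsp.map (f.fiberι (f x)).continuous
      rwa [f.fiberι_asFiber] at this
    have hηN : f.fiberι (f x) η ∈ N' := hsp'.mem_open N'.2 hx
    have hηZ : f.fiberι (f x) η ∈ Z := hsp'.mem_open Z.2 hxZ
    have hη0 : f.fiberι (f x) η ∈ U₀ := by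
      by_contra hn
      have h2' := hN _ hηN.1.1 hn
      rw [← ringKrullDim_fiber_congr f (f x) η _ rfl, GrothLib.AlgSp.ringKrullDim_stalk_eq_zero_of_component
        (show closure {η} ∈ irreducibleComponents ↥(f.fiber (f x)) by
          rw [hη.def]; exact irreducibleComponent_mem_irreducibleComponents _)] at h2'
      exact absurd h2' (not_le.2 (WithBot.coe_lt_coe.2 (by norm_num : (0 : ℕ∞) < 2)))
    refine hηZ fun hs => ?_
    haveI := hs
    let x' := f.fiberι (f x) η
    haveI : Subsingleton ((CohB1.tensorMod L W).presheaf.stalk x') :=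
      (Ref1.tensorStalk L W x').toEquiv.subsingleton
    haveI : Subsingleton (ω.presheaf.stalk x') :=
      (LinearEquiv.ofBijective (QCoh.stalkLin ε x') (hU₀E _ hη0)).symm.toEquiv.subsingleton
    haveI : Subsingleton (ω.presheaf.stalk x' →ₗ[Y.presheaf.stalk x'] ω.presheaf.stalk x') :=
      ⟨fun p q => LinearMap.ext fun v => Subsingleton.elim _ _⟩
    exact not_subsingleton (Y.presheaf.stalk x') (hEnd x').1.subsingleton
  have hdepL : ∀ x ∈ N', x ∉ U₀ → (2 : ℕ∞) ≤ LocCoh.depth (Y.presheaf.stalk x) (L.presheaf.stalk x) := by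
    intro x hx hn
    haveI : LocallyOfFiniteType (f.fiberToSpecResidueField (f x)) :=
      MorphismProperty.pullback_snd _ _ (inferInstance : LocallyOfFiniteType f)
    haveI : IsLocallyNoetherian (f.fiber (f x)) :=
      LocallyOfFiniteType.isLocallyNoetherian (f.fiberToSpecResidueField (f x))
    let P' := (Scheme.Modules.pullback (f.fiberι (f x))).obj L
    have hP' : Coh.IsCoh P' := ModDesc.isCoh_pullback _ _ hL
    let z := f.asFiber x
    have hz : f.fiberι (f x) z = x := f.fiberι_asFiber x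
    have hnt : ∀ w, f.fiberι (f x) w ⤳ x → Nontrivial (P'.presheaf.stalk w) := fun w hw => by
      refine not_subsingleton_iff_nontrivial.1 ?_
      show w ∈ CohB1.support P'
      rw [GrothLib.QCoh.support_pullback _ L hL]
      exact not_subsingleton_iff_nontrivial.2 (hLne _ (hw.mem_open N'.2 hx))
    haveI : IsNoetherianRing ((f.fiber (f x)).presheaf.stalk z) := GrothLib.DimCut.isNoetherianRing_stalk_fiber f _ _
    haveI : Module.Finite ((f.fiber (f x)).presheaf.stalk z) (P'.presheaf.stalk z) := QuasiFlat.finite_stalk _ hP' z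
    have hsupp : Module.support ((f.fiber (f x)).presheaf.stalk z) (P'.presheaf.stalk z) = Set.univ := by
      refine Set.eq_univ_of_forall fun q => ?_
      obtain ⟨σ, e, -⟩ := exists_pt_equiv hP' z q
      haveI := hnt (pt z q) (by
        have h1 : pt z q ⤳ z := by
          have := Scheme.range_fromSpecStalk (X := f.fiber (f x)) (x := z)
          exact (this ▸ Set.mem_range_self q : pt z q ∈ {y | y ⤳ z})
        have := h1.map (f.fiberι (f x)).continuous
        rwa [hz] at this)
      exact Module.mem_support_iff.2 e.symm.toEquiv.nontrivial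
    have h2' := two_le_depth_of_flat_fibre f hL (f x) z (by rw [hz]; exact hx.1.2.1)
      (two_le_depth_of_hasSk hsupp (hN x hx.1.1 hn) hx.1.2.2) (hnt z (by rw [hz]))
    rwa [hz] at h2'
  haveI : IsLocallyNoetherian (N' : Scheme.{u}) := LocallyOfFiniteType.isLocallyNoetherian N'.ι
  let R := Scheme.Modules.restrictFunctor N'.ι
  let εN : (CohB1.tensorMod L W).restrict N'.ι ⟶ ω.restrict N'.ι := R.map ε
  have hdepLW : ∀ x ∈ N', x ∉ U₀ →
      (2 : ℕ∞) ≤ LocCoh.depth (Y.presheaf.stalk x) ((CohB1.tensorMod L W).presheaf.stalk x) := by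
    intro x hx hn
    obtain ⟨τ⟩ := nonempty_stalk_equiv_of_invertibleAt (G := W) (x := x) hx.2
    haveI : Module.Finite (Y.presheaf.stalk x) (L.presheaf.stalk x) := QuasiFlat.finite_stalk _ hL _
    haveI : Module.Finite (Y.presheaf.stalk x) ((CohB1.tensorMod L W).presheaf.stalk x) :=
      QuasiFlat.finite_stalk _ hLWc _
    exact (hdepL x hx hn).trans (le_of_eq (GrothLib.Depth.idealDepth_eq_of_equiv _
      ((TensorProduct.rid _ _).symm ≪≫ₗ TensorProduct.congr (LinearEquiv.refl _ _) τ ≪≫ₗ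
        (Ref1.tensorStalk L W x).symm)))
  let V' : (N' : Scheme.{u}).Opens := N'.ι ⁻¹ᵁ U₀
  have hM : ∀ w : (N' : Scheme.{u}), w ∉ V' → (2 : ℕ∞) ≤ LocCoh.depth ((N' : Scheme.{u}).presheaf.stalk w)
      (((Scheme.Modules.pullback N'.ι).obj (CohB1.tensorMod L W)).presheaf.stalk w) := fun w hw => by
    letI := (N'.ι.stalkMap w).hom.toAlgebra
    rw [GrothLib.DepthAlong.depth_pullback_stalk N'.ι _ hLWc w]
    refine le_trans ?_ le_self_add
    have hw' : N'.ι w ∉ U₀ := fun h => hw (h)
    exact hdepLW (N'.ι w) w.2 hw'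
  have hN₂ : ∀ w : (N' : Scheme.{u}), w ∉ V' → (2 : ℕ∞) ≤ LocCoh.depth ((N' : Scheme.{u}).presheaf.stalk w)
      (((Scheme.Modules.pullback N'.ι).obj ω).presheaf.stalk w) := fun w hw => by
    letI := (N'.ι.stalkMap w).hom.toAlgebra
    rw [GrothLib.DepthAlong.depth_pullback_stalk N'.ι _ hωc w]
    refine le_trans ?_ le_self_add
    exact two_le_depth_omega d hS hd ω hω _ (hN _ w.2.1.1 fun h => hw (h))
  let M₁ := (Scheme.Modules.pullback N'.ι).obj (CohB1.tensorMod L W)
  let M₂ := (Scheme.Modules.pullback N'.ι).obj ω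
  let b : M₁ ⟶ M₂ := (Scheme.Modules.pullback N'.ι).map ε
  have hM₁ : Coh.IsCoh M₁ := ModDesc.isCoh_pullback _ _ hLWc
  have hM₂ : Coh.IsCoh M₂ := ModDesc.isCoh_pullback _ _ hωc
  haveI := hM₁.1
  haveI := hM₂.1
  haveI : M₁.IsFiniteType := hM₁.2
  haveI : M₂.IsFiniteType := hM₂.2
  have hbV : ∀ w ∈ V', Function.Bijective (QCoh.stalkLin b w) := fun w hw =>
    stalkLin_bijective_pullback N'.ι ε w (hU₀E _ (show N'.ι w ∈ U₀ from hw))
  haveI : IsIso ((Scheme.Modules.restrictFunctor V'.ι).map b) := Ref1.isIso_restrict_of_bijective b V' hbV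
  obtain ⟨c, hc⟩ := (Depth.restrict_map_bijective (E := M₁) (F := M₂) (U := V') hM).2
    (inv ((Scheme.Modules.restrictFunctor V'.ι).map b))
  simp only at hc
  haveI : IsIso b := ⟨c, (Depth.restrict_map_bijective (E := M₁) (F := M₁) (U := V') hM).1 (by
      simp only
      rw [Functor.map_comp, hc, IsIso.hom_inv_id, CategoryTheory.Functor.map_id]),
    (Depth.restrict_map_bijective (E := M₂) (F := M₂) (U := V') hN₂).1 (by
      simp only
      rw [Functor.map_comp, hc, IsIso.inv_hom_id, CategoryTheory.Functor.map_id])⟩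
  haveI : IsIso (R.map ε) := (NatIso.isIso_map_iff (Scheme.Modules.restrictFunctorIsoPullback N'.ι) ε).2
    (show IsIso b from inferInstance)
  exact bijective_stalkLin_of_restrict ε N' y hyN'

end GrothLib.ExtSplit20

end
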