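import Groth.Agent.Lib.ExtSplit20.Depth
import Groth.Agent.Lib.RightAdj20.ModelLocal
import Groth.Agent.Lib.QCoh.Extension
import Groth.Agent.Lib.AssPts.Restrict

/-!
# Self-extensions of the relative canonical sheaf
-/

set_option autoImplicit false
set_option linter.all false
set_option backward.isDefEq.respectTransparency false
set_option maxHeartbeats 2000000
set_option synthInstance.maxHeartbeats 200000

universe u

open CategoryTheory CategoryTheory.Limits AlgebraicGeometry TopologicalSpace Opposite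
attribute [local instance] HasDerivedCategory.standard

noncomputable section

namespace GrothLib.ExtSplit20

open GrothLib.OX GrothLib.DualFree20 GrothLib.RightAdj22

section Spec

variable {R : CommRingCat.{u}}

/-- A section of the global sections of an extension of quasi-coherent modules on an affine scheme is a section. -/
theorem exists_hom_section (T : ShortComplex (Spec R).Modules) [T.X₂.IsQuasicoherent] [T.X₃.IsQuasicoherent]
    (σ : (moduleSpecΓFunctor (R := R)).obj T.X₃ ⟶ (moduleSpecΓFunctor (R := R)).obj T.X₂)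
    (hσ : σ ≫ (moduleSpecΓFunctor (R := R)).map T.g = 𝟙 _) :
    ∃ s : T.X₃ ⟶ T.X₂, s ≫ T.g = 𝟙 _ := by
  let ν := Scheme.Modules.fromTildeΓNatTrans (R := R)
  haveI : IsIso (ν.app T.X₃) := Scheme.Modules.isIso_fromTildeΓ_of_isQuasicoherent T.X₃
  haveI : IsIso (ν.app T.X₂) := Scheme.Modules.isIso_fromTildeΓ_of_isQuasicoherent T.X₂
  refine ⟨inv (ν.app T.X₃) ≫ (tilde.functor R).map σ ≫ ν.app T.X₂, ?_⟩
  have h : ν.app T.X₂ ≫ T.g = (tilde.functor R).map ((moduleSpecΓFunctor (R := R)).map T.g) ≫ ν.app T.X₃ :=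
    (ν.naturality T.g).symm
  rw [Category.assoc, Category.assoc, h, ← Functor.map_comp_assoc, hσ, CategoryTheory.Functor.map_id,
    Category.id_comp, IsIso.inv_hom_id]

/-- The same, from a linear map. -/
theorem exists_hom_section_lin (T : ShortComplex (Spec R).Modules) [T.X₂.IsQuasicoherent] [T.X₃.IsQuasicoherent]
    (σ : ((moduleSpecΓFunctor (R := R)).obj T.X₃ : ModuleCat.{u} R) →ₗ[R]
      ((moduleSpecΓFunctor (R := R)).obj T.X₂ : ModuleCat.{u} R))
    (hσ : ∀ z, ((moduleSpecΓFunctor (R := R)).map T.g).hom (σ z) = z) :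
    ∃ s : T.X₃ ⟶ T.X₂, s ≫ T.g = 𝟙 _ :=
  exists_hom_section T (ModuleCat.homEquiv.symm σ) (ModuleCat.hom_ext (LinearMap.ext hσ))

/-- An extension of quasi-coherent modules with no first Ext between the global sections splits. -/
theorem exists_hom_section_of_ext (T : ShortComplex (Spec R).Modules) (hT : T.ShortExact) [T.X₁.IsQuasicoherent]
    [T.X₃.IsQuasicoherent]
    (hext : Subsingleton (Abelian.Ext ((moduleSpecΓFunctor (R := R)).obj T.X₃)
      ((moduleSpecΓFunctor (R := R)).obj T.X₁) 1)) :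
    ∃ s : T.X₃ ⟶ T.X₂, s ≫ T.g = 𝟙 _ := by
  haveI := QCoh.isQuasicoherent_X₂ hT
  let Γ' : (Spec R).Modules ⥤ ModuleCat.{u} R := moduleSpecΓFunctor (R := R)
  haveI : Γ'.IsRightAdjoint := (tilde.adjunction (R := R)).isRightAdjoint
  haveI : Γ'.PreservesZeroMorphisms := inferInstance
  have hex : (T.map Γ').ShortExact := by
    refine ShortComplex.ShortExact.mk' ((ShortComplex.moduleCat_exact_iff _).2 fun b hb => ?_) ?_ ?_
    · exact QCoh.app_exact hT ⊤ b hb
    · exact (ModuleCat.mono_iff_injective _).2 (QCoh.app_injective hT ⊤)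
    · exact (ModuleCat.epi_iff_surjective _).2 (QCoh.app_surjective_of_isAffineOpen hT (isAffineOpen_top _))
  obtain ⟨x, hx⟩ := Abelian.Ext.covariant_sequence_exact₃ (Γ'.obj T.X₃) hex (Abelian.Ext.mk₀ (𝟙 (Γ'.obj T.X₃)))
    (zero_add 1) (hext.elim _ _)
  obtain ⟨σ, rfl⟩ := (Abelian.Ext.mk₀_bijective _ _).2 x
  refine exists_hom_section T σ ((Abelian.Ext.mk₀_bijective _ _).1 ?_)
  rw [Abelian.Ext.mk₀_comp_mk₀] at hx
  exact hx

end Spec

section Chart

variable {A : Type u} [CommRing A] [IsNoetherianRing A] {Y : Scheme.{u}} [Y.Over (Spec (CommRingCat.of A))]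
  [IsProper (Y ↘ Spec (CommRingCat.of A))]

/-- Around a Cohen–Macaulay point there is a chart with no self-extensions of the sections. -/
theorem exists_chart_ext (d : ℕ) (hS : RelCanon.IsSkMor (Y ↘ Spec (CommRingCat.of A)) 2)
    (hd : Cyc.HasRelDim (Y ↘ Spec (CommRingCat.of A)) d)
    (ω : Y.Modules) (hω : RelCanon.IsDualizingSheaf A Y d ω) :
    Coh.IsCoh ω ∧ ∀ (T : Y.Opens) (y : Y), y ∈ T → MoreMor.IsCMAt (Y ↘ Spec (CommRingCat.of A)) y →
      ∃ (B : CommRingCat.{u}) (j : Spec B ⟶ Y) (_ : IsOpenImmersion j), y ∈ Set.range j ∧ j.opensRange ≤ T ∧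
        Subsingleton (Abelian.Ext ((moduleSpecΓFunctor (R := B)).obj (ω.restrict j))
          ((moduleSpecΓFunctor (R := B)).obj (ω.restrict j)) 1) := by
  let f := Y ↘ Spec (CommRingCat.of A)
  haveI : Flat f := hS.1
  haveI : LocallyOfFiniteType f := hS.2.1
  haveI : LocallyOfFinitePresentation f := GrothLib.LocProp.locallyOfFinitePresentation_of_isLocallyNoetherian f
  haveI : IsLocallyNoetherian Y := LocallyOfFiniteType.isLocallyNoetherian f
  have hdim : ∀ x : Y, FlatMor.fibreDimAt f x = (d : WithBot ℕ∞) := fun x => by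
    haveI : LocallyOfFiniteType (f.fiberToSpecResidueField (f x)) :=
      MorphismProperty.pullback_snd _ _ (inferInstance : LocallyOfFiniteType f)
    exact GrothLib.CodimExt27.localDim_eq_of_pure (k := (Spec (CommRingCat.of A)).residueField (f x))
      (f.fiberToSpecResidueField (f x)) (hd (f x)) (f.asFiber x)
  have hd' : ∀ s, topologicalKrullDim ↥(f.fiber s) ≤ (d : WithBot ℕ∞) :=
    fun s => GrothLib.FibPd.topologicalKrullDim_le_of_components fun Z hZ => (hd s Z hZ).le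
  haveI : CompactSpace Y := QuasiCompact.compactSpace_of_compactSpace f
  haveI : QuasiSeparatedSpace Y := quasiSeparatedSpace_of_quasiSeparated f
  haveI : DCoh.HasRpush f := KInj.hasRightDerivedFunctor _
  have hf : DCoh.RpushPreservesQCoh f := fun K hK =>
    GrothLib.KSix19.BettiExact.isQCohD_of_iso' ((rpushIsoRres f).app K).symm (isQCohD_Rres f K hK)
  haveI : (DCoh.RpushQ f hf).IsLeftAdjoint := OX.isLeftAdjoint_lift_Rpush f hf
  let adj := Adjunction.ofIsLeftAdjoint (DCoh.RpushQ f hf)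
  let W₀ : DCoh.DQCoh (Spec (CommRingCat.of A)) := ⟨DCoh.inD _ (Coh.structureModule _),
    KSix19.RpushAmp.isQCohD_inD _ (inferInstanceAs (Coh.structureModule (Spec (CommRingCat.of A))).IsQuasicoherent)⟩
  let K := ((DCoh.RpushQ f hf).rightAdjoint.obj W₀).obj
  obtain ⟨u⟩ := nonempty_iso_of_isDualizingSheaf
    (isDualizingSheaf_adjoint f rfl d hd' hf adj W₀ ⟨Iso.refl _⟩) hω
  let u' : DCoh.HD K (-(d : ℤ)) ≅ ω := eqToIso (by rw [zero_sub]) ≪≫ u
  let c : DEt.Compactification f := ⟨Y, 𝟙 Y, f, inferInstance, inferInstance, Category.id_comp f⟩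
  haveI : DCoh.HasRpush c.fbar := ‹DCoh.HasRpush f›
  haveI : PreservesFiniteLimits (Scheme.Modules.restrictFunctor c.j) := inferInstance
  let η₀ : ∀ i, DCoh.HD ((Dual3.shriekC c (DCoh.RpushQ f hf).rightAdjoint).obj W₀) i ≅ DCoh.HD K i := fun i =>
    (DerivedCategory.homologyFunctor _ i).mapIso ((RightAdj22.resDIdIso Y).app K)
  refine ⟨GrothLib.QCoh.isCoh_of_iso u'
    (GrothLib.QCoh.isCoh_of_iso (η₀ _) (GrothLib.ShriekBridge22.isCoh_HD_shriekC_O f c hf adj W₀ ⟨Iso.refl _⟩ _)), ?_⟩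
  intro T y hyT hy
  let U : Y.Opens := ⟨{y | MoreMor.IsCMAt f y}, Groth.Agent.S4961.result f⟩
  obtain ⟨-, hch⟩ := RightAdj20.affine_core f hf adj W₀ ⟨Iso.refl _⟩
  obtain ⟨B₀, _, j, hj, hyj, hjU, M, -, hne, ⟨e⟩⟩ := hch (U ⊓ T) y ⟨hy, hyT⟩
  haveI := hj
  let B := CommRingCat.of B₀
  refine ⟨B, j, hj, hyj, fun z hz => (hjU hz).2, ?_⟩
  let m : ℤ := -(d : ℤ)
  haveI : PreservesFiniteLimits (tilde.functor B) := OX.preservesFiniteLimits_tildeGen _
  let H := fun i => (DerivedCategory.homologyFunctor (ModuleCat.{u} B) i).obj M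
  let t : ∀ i, (Scheme.Modules.restrictFunctor j).obj (DCoh.HD K i) ≅ (tilde.functor B).obj (H i) := fun i =>
    (HDResIso j K i).symm ≪≫ (DerivedCategory.homologyFunctor _ i).mapIso e ≪≫ HDTildeIso (R := B) M i
  let Γ' : (Spec B).Modules ⥤ ModuleCat.{u} B := moduleSpecΓFunctor (R := B)
  let L : ∀ i, Γ'.obj ((Scheme.Modules.restrictFunctor j).obj (DCoh.HD K i)) ≅ H i := fun i =>
    Γ'.mapIso (t i) ≪≫ (tilde.toTildeΓNatIso.app (H i)).symm
  have hH : ∀ i, i ≠ m → IsZero (H i) := fun i hi => by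
    refine IsZero.of_iso ?_ (L i).symm
    have hZ : IsZero ((Scheme.Modules.restrictFunctor j).obj (DCoh.HD K i)) :=
      OX.isZero_of_subsingleton_stalks _ fun q => by
        refine @Equiv.subsingleton _ _
          ((Scheme.Modules.restrictStalkNatIso j q).app _).addCommGroupIsoToAddEquiv.toEquiv ?_
        refine not_nontrivial_iff_subsingleton.1 fun hn => hi ?_
        exact (GrothLib.ShriekBridge22.stalk_of_isCMAt f c hf adj W₀ ⟨Iso.refl _⟩ (hjU ⟨q, rfl⟩).1 (hdim _) i).1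
          ((nontrivial_stalk_of_iso (η₀ i) _).2 hn)
    haveI : Subsingleton Γ((Scheme.Modules.restrictFunctor j).obj (DCoh.HD K i), ⊤) :=
      AddCommGrpCat.subsingleton_of_isZero
        ((Functor.isZero_iff _).1 ((Scheme.Modules.toPresheaf _).map_isZero hZ) (Opposite.op ⊤))
    haveI : Subsingleton (Γ'.obj ((Scheme.Modules.restrictFunctor j).obj (DCoh.HD K i))) := this
    exact ModuleCat.isZero_of_subsingleton _
  haveI : M.IsGE m := (DerivedCategory.isGE_iff _ _).2 fun i hi => hH i (ne_of_lt hi)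
  haveI : M.IsLE m := (DerivedCategory.isLE_iff _ _).2 fun i hi => hH i (ne_of_gt hi)
  obtain ⟨N, ⟨eN⟩⟩ := DerivedCategory.exists_iso_singleFunctor_obj_of_isGE_of_isLE M m
  let lN : N ≅ Γ'.obj (ω.restrict j) :=
    ((DerivedCategory.singleFunctorCompHomologyFunctorIso (ModuleCat.{u} B) m).app N).symm ≪≫
      ((DerivedCategory.homologyFunctor (ModuleCat.{u} B) m).mapIso eN).symm ≪≫ (L m).symm ≪≫
      Γ'.mapIso ((Scheme.Modules.restrictFunctor j).mapIso u')
  let P := DerivedCategory.singleFunctor (ModuleCat.{u} B) m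
  let S₀ := DerivedCategory.singleFunctor (ModuleCat.{u} B) 0
  let e₀ : (P.obj N)⟦m⟧ ≅ S₀.obj N :=
    ((DerivedCategory.singleFunctors (ModuleCat.{u} B)).shiftIso m 0 m (add_zero m)).app N
  let e₁ : M⟦m⟧ ≅ S₀.obj N := (shiftFunctor _ m).mapIso eN ≪≫ e₀
  let e₂ : (M⟦(1 : ℤ)⟧)⟦m⟧ ≅ (S₀.obj N)⟦(1 : ℤ)⟧ := shiftComm M 1 m ≪≫ (shiftFunctor _ (1 : ℤ)).mapIso e₁
  haveI := hne 1 one_ne_zero
  haveI : Subsingleton (Abelian.Ext N N 1) := by
    refine ⟨fun a b => Abelian.Ext.homEquiv.injective ?_⟩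
    obtain ⟨a', ha'⟩ := (shiftFunctor (DerivedCategory (ModuleCat.{u} B)) m).map_surjective
      (e₁.hom ≫ (show S₀.obj N ⟶ (S₀.obj N)⟦(1 : ℤ)⟧ from Abelian.Ext.homEquiv a) ≫ e₂.inv)
    obtain ⟨b', hb'⟩ := (shiftFunctor (DerivedCategory (ModuleCat.{u} B)) m).map_surjective
      (e₁.hom ≫ (show S₀.obj N ⟶ (S₀.obj N)⟦(1 : ℤ)⟧ from Abelian.Ext.homEquiv b) ≫ e₂.inv)
    rw [Subsingleton.elim a' b', hb'] at ha'
    exact ((cancel_mono e₂.inv).1 ((cancel_epi e₁.hom).1 ha')).symm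
  refine ⟨fun a b => ?_⟩
  have key : ∀ z : Abelian.Ext (Γ'.obj (ω.restrict j)) (Γ'.obj (ω.restrict j)) 1, z = 0 := fun z => by
    have h := Subsingleton.elim
      (((Abelian.Ext.mk₀ lN.hom).comp z (zero_add 1)).comp (Abelian.Ext.mk₀ lN.inv) (add_zero 1)) 0
    have h' := congrArg (fun w => ((Abelian.Ext.mk₀ lN.inv).comp w (zero_add 1)).comp
      (Abelian.Ext.mk₀ lN.hom) (add_zero 1)) h
    simpa using h'
  rw [key a, key b]

end Chart

/-- A morphism of module sheaves as a map of sections over a smaller open. -/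
def resLin {X : Scheme.{u}} (F : X.Modules) {W D : X.Opens} (h : D ≤ W) (x : X) (hx : x ∈ D) :
    letI : Module Γ(X, W) (F.presheaf.stalk x) := Module.compHom _ (X.presheaf.germ W x (h hx)).hom
    Γ(F, W) →ₗ[Γ(X, W)] F.presheaf.stalk x :=
  letI : Module Γ(X, W) (F.presheaf.stalk x) := Module.compHom _ (X.presheaf.germ W x (h hx)).hom
  { toFun := fun z => F.presheaf.germ W x (h hx) z
    map_add' := map_add _
    map_smul' := fun a z => WeakAss.germ_smul (h hx) a z }

/-- **Self-extensions of the relative canonical sheaf split locally**, the fibres being `(S₃)`. -/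
theorem exists_local_section (A : Type u) [CommRing A] [IsNoetherianRing A] (Y : Scheme.{u})
    [Y.Over (Spec (CommRingCat.of A))] [IsProper (Y ↘ Spec (CommRingCat.of A))] (d : ℕ)
    (hS : RelCanon.IsSkMor (Y ↘ Spec (CommRingCat.of A)) 2) (hd : Cyc.HasRelDim (Y ↘ Spec (CommRingCat.of A)) d)
    (ω : Y.Modules) (hω : RelCanon.IsDualizingSheaf A Y d ω)
    (hS3 : ∀ y : Y, RelCanon.SkAt 3 (Coh.structureModule ((Y ↘ Spec (CommRingCat.of A)).fiber ((Y ↘ Spec (CommRingCat.of A)) y))) ((Y ↘ Spec (CommRingCat.of A)).asFiber y))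
    (V : Y.Opens) (S : ShortComplex (V : Scheme.{u}).Modules) (hSe : S.ShortExact)
    (e₁ : S.X₁ ≅ ω.restrict V.ι) (e₃ : S.X₃ ≅ ω.restrict V.ι) (y : Y) (hy : y ∈ V) :
    ∃ (W : Y.Opens) (i : W ≤ V), y ∈ W ∧
      ∃ σ : S.X₃.restrict (Y.homOfLE i) ⟶ S.X₂.restrict (Y.homOfLE i),
        σ ≫ (Scheme.Modules.restrictFunctor (Y.homOfLE i)).map S.g = 𝟙 _ := by
  classical
  let f := Y ↘ Spec (CommRingCat.of A)
  haveI : Flat f := hS.1
  haveI : LocallyOfFiniteType f := hS.2.1
  haveI : LocallyOfFinitePresentation f := GrothLib.LocProp.locallyOfFinitePresentation_of_isLocallyNoetherian f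
  haveI : IsLocallyNoetherian Y := LocallyOfFiniteType.isLocallyNoetherian f
  haveI : IsLocallyNoetherian (V : Scheme.{u}) := LocallyOfFiniteType.isLocallyNoetherian V.ι
  obtain ⟨hωc, hchart⟩ := exists_chart_ext d hS hd ω hω
  obtain ⟨hEnd⟩ := nonempty_homSh_dualizing_self_iso d hS hd ω hω
  haveI := hωc.1
  haveI : S.X₁.IsQuasicoherent :=
    (SheafOfModules.isQuasicoherent (R := (V : Scheme.{u}).ringCatSheaf)).prop_of_iso e₁.symm inferInstance
  haveI : S.X₃.IsQuasicoherent :=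
    (SheafOfModules.isQuasicoherent (R := (V : Scheme.{u}).ringCatSheaf)).prop_of_iso e₃.symm inferInstance
  haveI := QCoh.isQuasicoherent_X₂ hSe
  have hX₃ : Coh.IsCoh S.X₃ := QCoh.isCoh_of_iso e₃.symm
    (QCoh.isCoh_of_iso ((Scheme.Modules.restrictFunctorIsoPullback V.ι).app ω).symm (ModDesc.isCoh_pullback V.ι _ hωc))
  obtain ⟨W₁, hW₁, hyW₁, -⟩ :=
    exists_isAffineOpen_mem_and_subset (X := (V : Scheme.{u})) (x := (⟨y, hy⟩ : (V : Scheme.{u}))) (U := ⊤) trivial
  let R := Γ((V : Scheme.{u}), W₁)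
  let j₀ : Spec R ⟶ (V : Scheme.{u}) := IsAffineOpen.fromSpec hW₁
  haveI : IsOpenImmersion j₀ := (inferInstance : IsOpenImmersion (IsAffineOpen.fromSpec hW₁))
  let W₀ : (V : Scheme.{u}).Opens := j₀ ''ᵁ ⊤
  have hW₀ : IsAffineOpen W₀ := (isAffineOpen_top _).image_of_isOpenImmersion j₀
  have hyW₀ : (⟨y, hy⟩ : (V : Scheme.{u})) ∈ W₀ := by
    show (⟨y, hy⟩ : (V : Scheme.{u})) ∈ j₀ '' Set.univ
    rw [Set.image_univ, IsAffineOpen.range_fromSpec]
    exact hyW₁
  let B := Γ((V : Scheme.{u}), W₀)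
  haveI : IsNoetherianRing B := IsLocallyNoetherian.component_noetherian ⟨W₀, hW₀⟩
  let M := Γ(S.X₃, W₀)
  haveI : Module.Finite B M := QCoh.moduleFinite_of_isFiniteType S.X₃ hX₃.2 hW₀
  let ψ : S.X₃ ⟶ S.X₂ := (e₃ ≪≫ e₁.symm).hom ≫ S.f
  let ι' : M →ₗ[B] Γ(S.X₂, W₀) := QCoh.appLinear ψ W₀
  let π : Γ(S.X₂, W₀) →ₗ[B] M := QCoh.appLinear S.g W₀
  have hι : Function.Injective ι' := by
    show Function.Injective (ψ.app W₀)
    intro a b hab
    have h1 : (e₃ ≪≫ e₁.symm).hom.app W₀ a = (e₃ ≪≫ e₁.symm).hom.app W₀ b := QCoh.app_injective hSe W₀ hab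
    exact (ConcreteCategory.bijective_of_isIso ((e₃ ≪≫ e₁.symm).hom.app W₀)).1 h1
  have hexact : Function.Exact ι' π := fun b => by
    refine ⟨fun hb => ?_, ?_⟩
    · obtain ⟨a, ha⟩ := QCoh.app_exact hSe W₀ b hb
      obtain ⟨a', rfl⟩ := (ConcreteCategory.bijective_of_isIso ((e₃ ≪≫ e₁.symm).hom.app W₀)).2 a
      exact ⟨a', ha⟩
    · rintro ⟨a, rfl⟩
      exact QCoh.app_comp_zero W₀ _
  have hπ : Function.Surjective π := QCoh.app_surjective_of_isAffineOpen hSe hW₀
  -- endomorphisms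
  have hEndV : ∀ v : (V : Scheme.{u}),
      Function.Bijective (LinearMap.lsmul ((V : Scheme.{u}).presheaf.stalk v) (S.X₃.presheaf.stalk v)) := by
    intro v
    have h1 : Function.Bijective (LinearMap.lsmul (Y.presheaf.stalk (V.ι v)) (ω.presheaf.stalk (V.ι v))) :=
      bijective_lsmul_of_equiv ((LinearEquiv.ofBijective (RefHull.evalStalk ω ω (V.ι v))
        ((HomSh.hasRel_of_isCoh hωc).evalStalk_bijective ω (V.ι v))).symm ≪≫ₗ stalkIso hEnd (V.ι v) ≪≫ₗ
          (HomSh.unitStalk (V.ι v)).symm)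
    obtain ⟨σ, φ, hσ, hφ, hsl⟩ := AssPts.exists_restrict_stalk ω V v
    have h2 : Function.Bijective (LinearMap.lsmul ((V : Scheme.{u}).presheaf.stalk v)
        ((ω.restrict V.ι).presheaf.stalk v)) := by
      refine bijective_lsmul_congr (RingEquiv.ofBijective σ hσ).symm (AddEquiv.ofBijective φ hφ).symm (fun r z => ?_) h1
      refine hφ.1 ?_
      rw [hsl]
      show (AddEquiv.ofBijective φ hφ) ((AddEquiv.ofBijective φ hφ).symm (r • z)) =
        (RingEquiv.ofBijective σ hσ) ((RingEquiv.ofBijective σ hσ).symm r) •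
          (AddEquiv.ofBijective φ hφ) ((AddEquiv.ofBijective φ hφ).symm z)
      rw [AddEquiv.apply_symm_apply, AddEquiv.apply_symm_apply, RingEquiv.apply_symm_apply]
    exact bijective_lsmul_congr (RingEquiv.refl _) (stalkIso e₃.symm v).toAddEquiv
      (fun r z => map_smul (stalkIso e₃.symm v) r z) h2
  have hpt : ∀ q : PrimeSpectrum B, ∃ (v : (V : Scheme.{u})) (hv : v ∈ W₀), WeakAss.primeAt v hv = q.asIdeal := by
    intro q
    have hv : hW₀.fromSpec q ∈ W₀ := WeakAss.fromSpec_mem hW₀ q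
    exact ⟨_, hv, (congrArg PrimeSpectrum.asIdeal (QCoh.primeAt_eq_primeIdealOf hW₀ hv)).trans (congrArg _
      (hW₀.fromSpec.isOpenEmbedding.injective (hW₀.fromSpec_primeIdealOf ⟨_, hv⟩)))⟩
  have hEndM : Function.Bijective (LinearMap.lsmul B M) := by
    refine bijective_lsmul_of_primes fun q hq => ?_
    obtain ⟨v, hv, hvq⟩ := hpt ⟨q, hq⟩
    obtain rfl : WeakAss.primeAt v hv = q := hvq
    letI := (V : Scheme.{u}).presheaf.algebra_section_stalk ⟨v, hv⟩
    haveI := FlatFP.isLocalization_stalk_primeAt hW₀ hv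
    letI : Module B (S.X₃.presheaf.stalk v) := Module.compHom _ ((V : Scheme.{u}).presheaf.germ W₀ v hv).hom
    haveI : IsScalarTower B ((V : Scheme.{u}).presheaf.stalk v) (S.X₃.presheaf.stalk v) :=
      IsScalarTower.of_algebraMap_smul fun _ _ => rfl
    obtain ⟨g, hg, -⟩ := FlatFP.isLocalizedModule_germ (F := S.X₃) hW₀ hv
    exact ⟨_, inferInstance, inferInstance, inferInstance, S.X₃.presheaf.stalk v, inferInstance, inferInstance,
      inferInstance, inferInstance, g, hg, Or.inl (hEndV v)⟩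
  -- the splitting ideal contains an element off each Cohen–Macaulay point
  have hCM : ∀ (v : (V : Scheme.{u})) (hv : v ∈ W₀), MoreMor.IsCMAt f (V.ι v) →
      ¬ splitIdeal π ≤ WeakAss.primeAt v hv := by
    intro v hv hcm hle
    obtain ⟨C, j, hj, hvj, hjV, hext⟩ := hchart V (V.ι v) v.2 hcm
    haveI := hj
    have hfac : Set.range j ⊆ Set.range V.ι := by
      rw [Scheme.Opens.range_ι]; exact fun z hz => hjV hz
    let j' := IsOpenImmersion.lift V.ι j hfac
    have hj' : j' ≫ V.ι = j := IsOpenImmersion.lift_fac _ _ _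
    haveI : IsOpenImmersion (j' ≫ V.ι) := by rw [hj']; exact hj
    haveI : IsOpenImmersion j' := IsOpenImmersion.of_comp j' V.ι
    let Fj := Scheme.Modules.restrictFunctor j'
    haveI : PreservesFiniteLimits Fj := inferInstance
    haveI : PreservesFiniteColimits Fj := inferInstance
    let T := S.map Fj
    have hT : T.ShortExact := hSe.map_of_exact Fj
    haveI : T.X₁.IsQuasicoherent := (inferInstance : (Fj.obj S.X₁).IsQuasicoherent)
    haveI : T.X₃.IsQuasicoherent := (inferInstance : (Fj.obj S.X₃).IsQuasicoherent)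
    let c : (Scheme.Modules.restrictFunctor j').obj (ω.restrict V.ι) ≅ ω.restrict j :=
      ((Scheme.Modules.restrictFunctorCongr hj'.symm).app ω ≪≫ (Scheme.Modules.restrictFunctorComp j' V.ι).app ω).symm
    let Γ' : (Spec C).Modules ⥤ ModuleCat.{u} C := moduleSpecΓFunctor (R := C)
    let a₁ : Γ'.obj T.X₁ ≅ Γ'.obj (ω.restrict j) := Γ'.mapIso (Fj.mapIso e₁ ≪≫ c)
    let a₃ : Γ'.obj T.X₃ ≅ Γ'.obj (ω.restrict j) := Γ'.mapIso (Fj.mapIso e₃ ≪≫ c)
    haveI := hext
    haveI : Subsingleton (Abelian.Ext (Γ'.obj T.X₃) (Γ'.obj T.X₁) 1) := by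
      have key : ∀ z : Abelian.Ext (Γ'.obj T.X₃) (Γ'.obj T.X₁) 1, z = 0 := fun z => by
        have h := Subsingleton.elim
          (((Abelian.Ext.mk₀ a₃.inv).comp z (zero_add 1)).comp (Abelian.Ext.mk₀ a₁.hom) (add_zero 1)) 0
        have h' := congrArg (fun w => ((Abelian.Ext.mk₀ a₃.hom).comp w (zero_add 1)).comp
          (Abelian.Ext.mk₀ a₁.inv) (add_zero 1)) h
        simpa using h'
      exact ⟨fun a b => by rw [key a, key b]⟩
    obtain ⟨σ', hσ'⟩ := exists_hom_section_of_ext T hT inferInstance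
    obtain ⟨q, hq⟩ := hvj
    have hqv : j' q = v := V.ι.isOpenEmbedding.injective (by
      rw [← Scheme.Hom.comp_apply, hj', hq])
    let O : (Spec C).Opens := j' ⁻¹ᵁ W₀
    have hDW : j' ''ᵁ O ≤ W₀ := j'.image_preimage_le W₀
    have hvD : v ∈ j' ''ᵁ O := ⟨q, show j' q ∈ W₀ by rw [hqv]; exact hv, hqv⟩
    letI := (V : Scheme.{u}).presheaf.algebra_section_stalk ⟨v, hv⟩
    haveI := FlatFP.isLocalization_stalk_primeAt hW₀ hv
    letI : Module B (S.X₃.presheaf.stalk v) := Module.compHom _ ((V : Scheme.{u}).presheaf.germ W₀ v hv).hom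
    letI : Module B (S.X₂.presheaf.stalk v) := Module.compHom _ ((V : Scheme.{u}).presheaf.germ W₀ v hv).hom
    obtain ⟨g₃, hg₃, hg₃'⟩ := FlatFP.isLocalizedModule_germ (F := S.X₃) hW₀ hv
    obtain ⟨g₂, hg₂, hg₂'⟩ := FlatFP.isLocalizedModule_germ (F := S.X₂) hW₀ hv
    haveI := hg₃
    haveI := hg₂
    let χ : M →ₗ[B] S.X₂.presheaf.stalk v :=
      { toFun := fun z => S.X₂.presheaf.germ (j' ''ᵁ O) v hvD
          (show Γ(S.X₂, j' ''ᵁ O) from σ'.app O (show Γ(T.X₃, O) from S.X₃.presheaf.map (homOfLE hDW).op z))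
        map_add' := fun a b => by
          erw [map_add, map_add, map_add]
        map_smul' := fun r z => by
          let r' : Γ((V : Scheme.{u}), j' ''ᵁ O) := (V : Scheme.{u}).presheaf.map (homOfLE hDW).op r
          have h1 : (show Γ(T.X₃, O) from S.X₃.presheaf.map (homOfLE hDW).op (r • z)) =
              (j'.appIso O).hom r' • (show Γ(T.X₃, O) from S.X₃.presheaf.map (homOfLE hDW).op z) := by
            refine (Scheme.Modules.map_smul _ _ r z).trans ?_
            refine Eq.trans ?_ (InvExt.restrict_smul j' S.X₃ ((j'.appIso O).hom r') _).symm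
            exact congrArg (fun a : Γ((V : Scheme.{u}), j' ''ᵁ O) =>
              a • (show Γ(S.X₃, j' ''ᵁ O) from S.X₃.presheaf.map (homOfLE hDW).op z))
              (ConcreteCategory.congr_hom (j'.appIso O).hom_inv_id r').symm
          rw [h1, Scheme.Modules.Hom.app_smul]
          erw [InvExt.restrict_smul j' S.X₂ ((j'.appIso O).hom r')]
          rw [show (j'.appIso O).inv ((j'.appIso O).hom r') = r' from
            ConcreteCategory.congr_hom (j'.appIso O).hom_inv_id r']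
          erw [WeakAss.germ_smul (F := S.X₂) hvD]
          exact congrArg (· • _) (TopCat.Presheaf.germ_res_apply (V : Scheme.{u}).presheaf (homOfLE hDW) v hvD r) }
    have hχ : ∀ z, WeakAss.stalkLinear S.g v (χ z) = g₃ z := fun z => by
      rw [hg₃']
      show WeakAss.stalkLinear S.g v (S.X₂.presheaf.germ (j' ''ᵁ O) v hvD _) = _
      rw [WeakAss.stalkLinear_germ]
      have h1 := ConcreteCategory.congr_hom (congrArg (fun t => Scheme.Modules.Hom.app t O) hσ')
        (show Γ(T.X₃, O) from S.X₃.presheaf.map (homOfLE hDW).op z)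
      refine (congrArg (S.X₃.presheaf.germ (j' ''ᵁ O) v hvD) h1).trans ?_
      exact TopCat.Presheaf.germ_res_apply S.X₃.presheaf (homOfLE hDW) v hvD z
    haveI : IsScalarTower B ((V : Scheme.{u}).presheaf.stalk v) (S.X₃.presheaf.stalk v) :=
      IsScalarTower.of_algebraMap_smul fun _ _ => rfl
    haveI : IsScalarTower B ((V : Scheme.{u}).presheaf.stalk v) (S.X₂.presheaf.stalk v) :=
      IsScalarTower.of_algebraMap_smul fun _ _ => rfl
    obtain ⟨t, ht, htJ⟩ := exists_notMem_splitIdeal π (WeakAss.primeAt v hv).primeCompl g₃ g₂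
      ((WeakAss.stalkLinear S.g v).restrictScalars B) (fun z => by
        show WeakAss.stalkLinear S.g v (g₂ z) = _
        rw [hg₂', hg₃', WeakAss.stalkLinear_germ]
        rfl) χ hχ
    exact ht (hle htJ)
  -- depth along the ideal
  have hdep : ∀ (v : (V : Scheme.{u})), ¬ MoreMor.IsCMAt f (V.ι v) →
      (3 : ℕ∞) ≤ LocCoh.depth ((V : Scheme.{u}).presheaf.stalk v) ((V : Scheme.{u}).presheaf.stalk v) ∧
      (2 : ℕ∞) ≤ LocCoh.depth ((V : Scheme.{u}).presheaf.stalk v) (S.X₃.presheaf.stalk v) := by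
    intro v hcm
    let U : Y.Opens := ⟨{y | MoreMor.IsCMAt f y}, Groth.Agent.S4961.result f⟩
    have hd' : ∀ s, topologicalKrullDim ↥(f.fiber s) ≤ (d : WithBot ℕ∞) :=
      fun s => GrothLib.FibPd.topologicalKrullDim_le_of_components fun Z hZ => (hd s Z hZ).le
    have h2 := two_le_depth_dualizing d hd' U (fun z hz => (three_le_depth_of_not_cm f z (hS3 z) hz).1) hω hωc
      (V.ι v) hcm
    have h3 := (three_le_depth_of_not_cm f (V.ι v) (hS3 _) hcm).2
    obtain ⟨σ, φ, hσ, hφ, hsl⟩ := AssPts.exists_restrict_stalk ω V v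
    haveI : Module.Finite ((V : Scheme.{u}).presheaf.stalk v) ((ω.restrict V.ι).presheaf.stalk v) := by
      haveI : Module.Finite ((V : Scheme.{u}).presheaf.stalk v) (S.X₃.presheaf.stalk v) := QuasiFlat.finite_stalk _ hX₃ v
      exact Module.Finite.equiv (stalkIso e₃ v)
    haveI : Module.Finite ((V : Scheme.{u}).presheaf.stalk v) (S.X₃.presheaf.stalk v) := QuasiFlat.finite_stalk _ hX₃ v
    haveI : Module.Finite (Y.presheaf.stalk (V.ι v)) (ω.presheaf.stalk (V.ι v)) := QuasiFlat.finite_stalk _ hωc _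
    constructor
    · rw [GrothLib.SkExt.depth_congr_semilinear (RingEquiv.ofBijective σ hσ)
        (RingEquiv.ofBijective σ hσ).toAddEquiv (fun r z => map_mul (RingEquiv.ofBijective σ hσ) r z)]
      exact h3
    · rw [show LocCoh.depth ((V : Scheme.{u}).presheaf.stalk v) (S.X₃.presheaf.stalk v) =
        LocCoh.depth ((V : Scheme.{u}).presheaf.stalk v) ((ω.restrict V.ι).presheaf.stalk v)
        from Depth.idealDepth_eq_of_equiv _ (stalkIso e₃ v),
        GrothLib.SkExt.depth_congr_semilinear (RingEquiv.ofBijective σ hσ) (AddEquiv.ofBijective φ hφ) hsl]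
      exact h2
  have hnc : ∀ (v : (V : Scheme.{u})) (hv : v ∈ W₀), splitIdeal π ≤ WeakAss.primeAt v hv →
      ¬ MoreMor.IsCMAt f (V.ι v) := fun v hv h hcm => hCM v hv hcm h
  have hB3 : ((3 : ℕ) : ℕ∞) ≤ LocCoh.idealDepth (splitIdeal π) B := by
    refine DepthExt20.le_idealDepth_of_forall_depth _ fun p hp => ?_
    obtain ⟨v, hv, hvp⟩ := hpt p
    letI := (V : Scheme.{u}).presheaf.algebra_section_stalk ⟨v, hv⟩
    haveI : IsLocalization.AtPrime ((V : Scheme.{u}).presheaf.stalk v) p.asIdeal := by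
      have := FlatFP.isLocalization_stalk_primeAt hW₀ hv
      simp only [hvp] at this
      exact this
    haveI : IsLocalizedModule p.asIdeal.primeCompl (Algebra.linearMap B ((V : Scheme.{u}).presheaf.stalk v)) :=
      (isLocalizedModule_iff_isLocalization).2 inferInstance
    rw [DepthExt20.depth_eq_of_isLocalization p.asIdeal ((V : Scheme.{u}).presheaf.stalk v) _
      (Algebra.linearMap B ((V : Scheme.{u}).presheaf.stalk v))]
    exact (hdep v (hnc v hv (hvp ▸ hp))).1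
  have hM2 : ((2 : ℕ) : ℕ∞) ≤ LocCoh.idealDepth (splitIdeal π) M := by
    refine DepthExt20.le_idealDepth_of_forall_depth _ fun p hp => ?_
    obtain ⟨v, hv, hvp⟩ := hpt p
    obtain ⟨q, hq⟩ := p
    obtain rfl : WeakAss.primeAt v hv = q := hvp
    rw [← DepthExt20.depth_stalk_eq S.X₃ hX₃ hW₀ hv]
    exact (hdep v (hnc v hv hp)).2
  obtain ⟨s, hs⟩ := exists_section_of_depth ι' π hι hexact hπ hEndM hB3 hM2
  -- back to sheaves
  let F₀ := Scheme.Modules.restrictFunctor j₀
  let T₀ := S.map F₀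
  let Γ₀ : (Spec R).Modules ⥤ ModuleCat.{u} R := moduleSpecΓFunctor (R := R)
  haveI : T₀.X₂.IsQuasicoherent := (inferInstance : (F₀.obj S.X₂).IsQuasicoherent)
  haveI : T₀.X₃.IsQuasicoherent := (inferInstance : (F₀.obj S.X₃).IsQuasicoherent)
  let σL : (Γ₀.obj T₀.X₃ : ModuleCat.{u} R) →ₗ[R] (Γ₀.obj T₀.X₂ : ModuleCat.{u} R) :=
    { toFun := fun z => (show Γ(S.X₂, W₀) from s (show Γ(S.X₃, W₀) from z))
      map_add' := fun a b => s.map_add (show Γ(S.X₃, W₀) from a) (show Γ(S.X₃, W₀) from b)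
      map_smul' := fun r z => s.map_smul ((j₀.appIso ⊤).inv ((Scheme.ΓSpecIso R).inv r)) (show Γ(S.X₃, W₀) from z) }
  obtain ⟨s₀, hs₀⟩ := exists_hom_section_lin T₀ σL (fun z => hs (show Γ(S.X₃, W₀) from z))
  let k := j₀ ≫ V.ι
  let W := k.opensRange
  have hWV : W ≤ V := by
    rintro z ⟨a, rfl⟩
    exact (j₀ a).2
  refine ⟨W, hWV, ?_, ?_⟩
  · obtain ⟨a, ha⟩ : (⟨y, hy⟩ : (V : Scheme.{u})) ∈ Set.range j₀ := by
      rw [IsAffineOpen.range_fromSpec]; exact hyW₁
    exact ⟨a, by show V.ι (j₀ a) = y; rw [ha]; rfl⟩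
  have hk : Y.homOfLE hWV = k.isoOpensRange.inv ≫ j₀ := by
    rw [← cancel_mono V.ι, Scheme.homOfLE_ι, Category.assoc]
    exact k.isoOpensRange_inv_comp.symm
  let E : Scheme.Modules.restrictFunctor (Y.homOfLE hWV) ≅
      F₀ ⋙ Scheme.Modules.restrictFunctor k.isoOpensRange.inv :=
    Scheme.Modules.restrictFunctorCongr hk ≪≫ Scheme.Modules.restrictFunctorComp k.isoOpensRange.inv j₀
  refine ⟨E.hom.app S.X₃ ≫ (Scheme.Modules.restrictFunctor k.isoOpensRange.inv).map s₀ ≫ E.inv.app S.X₂, ?_⟩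
  rw [Category.assoc, Category.assoc, ← E.inv.naturality, Functor.comp_map, ← Functor.map_comp_assoc]
  erw [hs₀]
  erw [CategoryTheory.Functor.map_id]
  erw [Category.id_comp]
  exact E.hom_inv_id_app S.X₃

end GrothLib.ExtSplit20

end
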