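import Groth.Agent.Lib.ExtSplit20.Tools28
import Groth.Agent.Lib.ExtSplit20.Tensor28
import Groth.Agent.Lib.ArtCrit20.SkOpen
import Groth.Agent.Lib.CohGab9.Basic
import Groth.Agent.Lib.ExtSplit20.Lift28Ev

/-!
# A flat lift of the canonical sheaf of a fibre
-/

set_option autoImplicit false
set_option linter.all false
set_option backward.isDefEq.respectTransparency false
set_option maxHeartbeats 4000000
set_option synthInstance.maxHeartbeats 200000

universe u

open CategoryTheory CategoryTheory.Limits AlgebraicGeometry TopologicalSpace Opposite IsLocalRing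
attribute [local instance] HasDerivedCategory.standard

noncomputable section

namespace GrothLib.ExtSplit20

open GrothLib.OX GrothLib.DualFree20 GrothLib.RightAdj22 GrothLib.ArtCrit20

variable {A : Type u} [CommRing A] [IsNoetherianRing A] {Y : Scheme.{u}} [Y.Over (Spec (CommRingCat.of A))]
  [IsProper (Y ↘ Spec (CommRingCat.of A))]

/-- **A flat module restricting to the canonical sheaf of an `(S₂)` fibre.** -/
theorem lift_data (d : ℕ) (hS : RelCanon.IsSkMor (Y ↘ Spec (CommRingCat.of A)) 2)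
    (hd : Cyc.HasRelDim (Y ↘ Spec (CommRingCat.of A)) d) (ω : Y.Modules) (hω : RelCanon.IsDualizingSheaf A Y d ω)
    (L : Y.Modules) (hL : Coh.IsCoh L) (hLf : FlatMod.IsFlatOver (Y ↘ Spec (CommRingCat.of A)) L)
    (t : ↥(Spec (CommRingCat.of A))) (h2 : RelCanon.IsDualizingSheafFib (Y ↘ Spec (CommRingCat.of A)) d L t)
    (h3 : (∀ y : Y, (Y ↘ Spec (CommRingCat.of A)) y = t →
        RelCanon.SkAt 3 (Coh.structureModule ((Y ↘ Spec (CommRingCat.of A)).fiber ((Y ↘ Spec (CommRingCat.of A)) y)))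
          ((Y ↘ Spec (CommRingCat.of A)).asFiber y)) ∨
      (∃ r : ℕ, 0 < r ∧ (r : (Spec (CommRingCat.of A)).residueField t) ≠ 0 ∧
        ∀ y : Y, (Y ↘ Spec (CommRingCat.of A)) y = t →
          RelCanon.InvertibleAt (RelCanon.refPowZ L r) y ∧ RelCanon.InvertibleAt (RelCanon.refPowZ ω r) y)) :
    (∀ y : Y, (Y ↘ Spec (CommRingCat.of A)) y = t →
      RelCanon.InvertibleAt (RefHull.homSh L ω) y ∧ RelCanon.RelSkAt (Y ↘ Spec (CommRingCat.of A)) 2 ω y) ∧
    Nonempty ((Scheme.Modules.pullback ((Y ↘ Spec (CommRingCat.of A)).fiberι t)).obj (RefHull.homSh L ω) ≅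
      Coh.structureModule ((Y ↘ Spec (CommRingCat.of A)).fiber t)) ∧
    RelCanon.IsDualizingSheafFib (Y ↘ Spec (CommRingCat.of A)) d ω t ∧
    (∃ V : Y.Opens, (∀ y : Y, (Y ↘ Spec (CommRingCat.of A)) y = t → y ∈ V) ∧
      Nonempty ((CohB1.tensorMod L (RefHull.homSh L ω)).restrict V.ι ≅ ω.restrict V.ι)) := by
  classical
  let f := Y ↘ Spec (CommRingCat.of A)
  haveI : Flat f := hS.1
  haveI : LocallyOfFiniteType f := hS.2.1
  haveI : LocallyOfFinitePresentation f := GrothLib.LocProp.locallyOfFinitePresentation_of_isLocallyNoetherian f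
  haveI : IsLocallyNoetherian Y := LocallyOfFiniteType.isLocallyNoetherian f
  haveI : LocallyOfFiniteType (f.fiberToSpecResidueField t) :=
    MorphismProperty.pullback_snd _ _ (inferInstance : LocallyOfFiniteType f)
  let Yt := f.fiber t
  haveI : IsLocallyNoetherian Yt := LocallyOfFiniteType.isLocallyNoetherian (f.fiberToSpecResidueField t)
  let ι := f.fiberι t
  obtain ⟨hωc, -⟩ := exists_chart_ext d hS hd ω hω
  obtain ⟨U, hUeq⟩ : ∃ U : Y.Opens, ∀ y, y ∈ U ↔ MoreMor.IsCMAt f y :=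
    ⟨⟨{y | MoreMor.IsCMAt f y}, Groth.Agent.S4961.result f⟩, fun _ => Iff.rfl⟩
  obtain ⟨-, hbc⟩ := cm_data d hS hd ω hω U hUeq
  obtain ⟨eEndY⟩ := nonempty_homSh_dualizing_self_iso d hS hd ω hω
  have hEnd : ∀ y : Y, Function.Bijective (LinearMap.lsmul (Y.presheaf.stalk y) (ω.presheaf.stalk y)) := fun y =>
    bijective_lsmul_of_equiv ((LinearEquiv.ofBijective (RefHull.evalStalk ω ω y)
      ((HomSh.hasRel_of_isCoh hωc).evalStalk_bijective ω y)).symm ≪≫ₗ stalkIso eEndY y ≪≫ₗ (HomSh.unitStalk y).symm)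
  let W := RefHull.homSh L ω
  have hWc : Coh.IsCoh W := HomSh.isCoh_homSh (HomSh.hasRel_of_isCoh hL) hωc
  have hLWc : Coh.IsCoh (CohB1.tensorMod L W) := isCoh_tensorMod' hL hWc
  obtain ⟨ε, hε⟩ := LM28.exists_ev L ω hL hωc
  let ωt := (Scheme.Modules.pullback ι).obj L
  obtain ⟨hωtc, ⟨eEnd⟩, hsk, hne, hdep⟩ := fibre_data d hS hd t ωt h2
  have hmem : ∀ z : Yt, f (ι z) = t := fun z =>
    (f.range_fiberι t ▸ Set.mem_range_self z : f.fiberι t z ∈ f ⁻¹' {t})
  have hcm : ∀ z : Yt, ι z ∈ U →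
      RelCanon.InvertibleAt W (ι z) ∧ Function.Bijective (QCoh.stalkLin ε (ι z)) := fun z hz => by
    obtain ⟨e⟩ := nonempty_stalk_iso d hS hd ω hω L hL t h2 z (hLf _) ((hUeq _).1 hz)
    exact ⟨(hom_stalk_data hL hωc (ι z) e (hEnd _)).1, (hom_stalk_data hL hωc (ι z) e (hEnd _)).2 ε hε⟩
  have hfib : ∀ y : Y, f y = t → ∃ z : Yt, ι z = y := fun y hy => by
    subst hy; exact ⟨f.asFiber y, f.fiberι_asFiber y⟩
  have hcm' : ∀ y : Y, f y = t → y ∈ U →
      RelCanon.InvertibleAt W y ∧ Function.Bijective (QCoh.stalkLin ε y) := fun y hy hyU => by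
    obtain ⟨z, rfl⟩ := hfib y hy
    exact hcm z hyU
  have hdim : ∀ z : Yt, ι z ∉ U → (3 : WithBot ℕ∞) ≤ ringKrullDim (Yt.presheaf.stalk z) := fun z hz => by
    rw [dim_fibre_point f t z]
    exact three_le_dim_of_not_cm f hS (ι z) fun h => hz ((hUeq _).2 h)
  have hdim2 : ∀ z : Yt, ι z ∉ U → (2 : WithBot ℕ∞) ≤ ringKrullDim (Yt.presheaf.stalk z) := fun z hz =>
    le_trans (by exact_mod_cast (show (2 : ℕ) ≤ 3 by norm_num)) (hdim z hz)
  -- the fibre of `W` is trivial off codimension three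
  let P := (Scheme.Modules.pullback ι).obj W
  have hPc : Coh.IsCoh P := ModDesc.isCoh_pullback ι _ hWc
  let V₀ : Yt.Opens := ι ⁻¹ᵁ U
  have hωfc : Coh.IsCoh ((Scheme.Modules.pullback ι).obj ω) := ModDesc.isCoh_pullback ι _ hωc
  haveI := hωfc.1
  haveI := hωtc.1
  haveI : ((Scheme.Modules.pullback ι).obj ω).IsFiniteType := hωfc.2
  haveI : ωt.IsFiniteType := hωtc.2
  obtain ⟨eW⟩ := hbc t ωt h2
  obtain ⟨a, ha⟩ := (Depth.restrict_map_bijective (E := ωt) (F := (Scheme.Modules.pullback ι).obj ω) (U := V₀)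
    (fun z hz => hdep z (hdim2 z hz))).2 eW.hom
  haveI : IsIso ((Scheme.Modules.restrictFunctor V₀.ι).map a) := by
    show IsIso ((Scheme.Modules.restrictFunctor V₀.ι).map a)
    simp only at ha
    rw [ha]; infer_instance
  let h : CohB1.tensorMod ωt P ⟶ ωt :=
    (OX.pullTensorIso ι L W).inv ≫ (Scheme.Modules.pullback ι).map ε ≫ a
  obtain ⟨ψ, hψ⟩ := exists_trivialisation hωtc eEnd h
  have hψV : ∀ z ∈ V₀, Function.Bijective (QCoh.stalkLin ψ z) := fun z hz =>
    hψ z (invertibleAt_pullback ι _ (hcm z hz).1) (stalkLin_bijective_comp _ _ z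
      (stalkLin_bijective_iso (OX.pullTensorIso ι L W).symm z)
      (stalkLin_bijective_comp _ _ z (stalkLin_bijective_pullback ι ε z (hcm z hz).2)
        (bijective_stalkLin_of_restrict a V₀ z hz)))
  haveI : IsIso ((Scheme.Modules.restrictFunctor V₀.ι).map ψ) := Ref1.isIso_restrict_of_bijective ψ V₀ hψV
  let eP : P.restrict V₀.ι ≅ (Coh.structureModule Yt).restrict V₀.ι :=
    asIso ((Scheme.Modules.restrictFunctor V₀.ι).map ψ)
  have hOc : Coh.IsCoh (Coh.structureModule Yt) := HomSh.isCoh_structureModule Yt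
  have hOd : ∀ z, z ∉ V₀ →
      (2 : ℕ∞) ≤ LocCoh.depth (Yt.presheaf.stalk z) ((Coh.structureModule Yt).presheaf.stalk z) := fun z hz => by
    haveI : Module.Finite (Yt.presheaf.stalk z) ((Coh.structureModule Yt).presheaf.stalk z) :=
      Module.Finite.equiv (HomSh.unitStalk (X := Yt) z)
    exact (two_le_depth_fibre_ring f hS t z (hdim2 z hz)).trans
      (le_of_eq (GrothLib.Depth.idealDepth_eq_of_equiv _ (HomSh.unitStalk (X := Yt) z)))
  have hDi : ∀ z, RelCanon.InvertibleAt (RefHull.ddual P) z := fun z => by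
    have hPV : PicF.IsInvertible (P.restrict V₀.ι) :=
      isInvertible_restrict_of_invertibleAt V₀ fun w hw => invertibleAt_pullback ι _ (hcm w hw).1
    obtain ⟨b⟩ := nonempty_ddual_restrict V₀ hPV
    obtain ⟨e⟩ := nonempty_iso_of_restrict (isCoh_ddual' hPc) hOc V₀
      (fun w hw => two_le_depth_ddual hPc w (two_le_depth_fibre_ring f hS t w (hdim2 w hw))) hOd (b ≪≫ eP)
    exact invertibleAt_of_iso e (invertibleAt_of_restrict ⊤ (isInvertible_restrict_of_invertibleAt ⊤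
      fun w _ => (isInvertible_structureModule Yt) w) z trivial)
  -- the good open
  let E : Y.Opens := ⟨{x | Function.Bijective (QCoh.stalkLin ε x)},
    HomSh.isOpen_bijective_stalk (HomSh.hasRel_of_isCoh hLWc) (HomSh.hasRel_of_isCoh hωc) ε⟩
  have hIopen : IsOpen {x : Y | RelCanon.InvertibleAt W x} := isOpen_invertibleAt W
  let U₀ : Y.Opens := ⟨{x : Y | RelCanon.InvertibleAt W x}, hIopen⟩ ⊓ E
  have hU₀W : PicF.IsInvertible (W.restrict U₀.ι) := isInvertible_restrict_of_invertibleAt U₀ fun x hx => hx.1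
  have hU₀cm : ∀ y : Y, f y = t → y ∈ U → y ∈ U₀ := hcm'
  have hcod3 : ∀ y : Y, f y = t → y ∉ U₀ →
      (3 : WithBot ℕ∞) ≤ ringKrullDim ((f.fiber (f y)).presheaf.stalk (f.asFiber y)) := fun y hy hn =>
    three_le_dim_of_not_cm f hS y fun h => hn (hU₀cm y hy ((hUeq y).2 h))
  have hcod2 : ∀ y : Y, f y = t → y ∉ U₀ →
      (2 : WithBot ℕ∞) ≤ ringKrullDim ((f.fiber (f y)).presheaf.stalk (f.asFiber y)) := fun y hy hn =>
    le_trans (by exact_mod_cast (show (2 : ℕ) ≤ 3 by norm_num)) (hcod3 y hy hn)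
  -- invertibility along the fibre
  have hinv : ∀ y : Y, f y = t → RelCanon.InvertibleAt W y := by
    intro y hy
    obtain ⟨z, rfl⟩ := hfib y hy
    rcases h3 with h3 | ⟨r, hr, hrk, hinvs⟩
    · obtain ⟨N, hyN, hN, ⟨eN⟩⟩ := homSh_local d hS hd ω hω L hL U₀ hU₀W (ι z)
        (fun x hx => hcod2 x (hx.trans (hmem z)))
      obtain ⟨e₁⟩ := nonempty_stalk_of_restrict N eN (ι z) hyN
      obtain ⟨e₂⟩ := nonempty_ddual_stalk hWc (ι z)
      haveI : Module.Finite (Y.presheaf.stalk (ι z)) (W.presheaf.stalk (ι z)) := QuasiFlat.finite_stalk _ hWc _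
      haveI : Module.IsReflexive (Y.presheaf.stalk (ι z)) (W.presheaf.stalk (ι z)) :=
        isReflexive_of_equiv_ddual (e₁.trans e₂)
      have key : ∀ (x : Y) (t : ↥(Spec (CommRingCat.of A))) (w : f.fiber t), f.fiberι t w = x →
          RelCanon.SkAt 3 (Coh.structureModule (f.fiber (f x))) (f.asFiber x) →
          RelCanon.SkAt 3 (Coh.structureModule (f.fiber t)) w := by
        intro x t w hx h
        have ht : f x = t := by rw [← hx]; exact GrothLib.DimCut.apply_fiberι f t w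
        subst ht
        rw [GrothLib.DimCut.eq_asFiber f x w hx]
        exact h
      exact invertibleAt_of_S3 f hS W hWc U₀ hU₀W t z hcod3 (key _ t z rfl (h3 _ (hmem z))) (hDi z)
    · obtain ⟨r₀, rfl⟩ : ∃ k, r = k + 1 := ⟨r - 1, by omega⟩
      exact invertibleAt_homSh_root d hS hd ω hω L hL ε t U₀ hU₀W (fun x hx => hx.2) hcod2 r₀ hrk hinvs z (hDi z)
  -- the fibre of `W` is trivial
  have hPi : ∀ z : Yt, RelCanon.InvertibleAt P z := fun z => invertibleAt_pullback ι _ (hinv _ (hmem z))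
  obtain ⟨eP'⟩ := nonempty_iso_of_restrict hPc hOc V₀ (fun z hz => by
      obtain ⟨τ⟩ := nonempty_stalk_equiv_of_invertibleAt (hPi z)
      haveI : Module.Finite (Yt.presheaf.stalk z) (P.presheaf.stalk z) := QuasiFlat.finite_stalk _ hPc z
      exact (two_le_depth_fibre_ring f hS t z (hdim2 z hz)).trans
        (le_of_eq (GrothLib.Depth.idealDepth_eq_of_equiv _ τ))) hOd eP
  -- the evaluation is bijective along the fibre
  have hskL : ∀ y : Y, f y = t → RelCanon.RelSkAt f 2 L y := fun y hy => by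
    subst hy
    exact ⟨hLf y, hsk _⟩
  have hεb : ∀ y : Y, f y = t → Function.Bijective (QCoh.stalkLin ε y) :=
    bijective_ev d hS hd ω hω L hL t ε U₀ hU₀W (fun x hx => hx.2) hcod2 hinv hskL
  refine ⟨fun y hy => ⟨hinv y hy, ?_⟩, ⟨eP'⟩, ?_, ?_⟩
  · obtain ⟨τ⟩ := nonempty_stalk_equiv_of_invertibleAt (hinv y hy)
    let e : L.presheaf.stalk y ≃ₗ[Y.presheaf.stalk y] ω.presheaf.stalk y :=
      (TensorProduct.rid _ _).symm ≪≫ₗ TensorProduct.congr (LinearEquiv.refl _ _) τ ≪≫ₗ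
        (Ref1.tensorStalk L W y).symm ≪≫ₗ LinearEquiv.ofBijective (QCoh.stalkLin ε y) (hεb y hy)
    haveI : Module.Finite (Y.presheaf.stalk y) (L.presheaf.stalk y) := QuasiFlat.finite_stalk _ hL y
    haveI : Module.Finite (Y.presheaf.stalk y) (ω.presheaf.stalk y) := QuasiFlat.finite_stalk _ hωc y
    exact (relSkAt_iff_good f hωc 2 y).2 (((relSkAt_iff_good f hL 2 y).1 (hskL y hy)).congr
      (RingEquiv.refl _) (RingEquiv.refl _) (fun _ => rfl) e.toAddEquiv (fun r v => map_smul e r v))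
  · haveI : IsIso ((Scheme.Modules.pullback ι).map ε) := (OX.isIso_iff _).2 fun z =>
      (ConcreteCategory.isIso_iff_bijective _).2 (stalkLin_bijective_pullback ι ε z (hεb _ (hmem z)))
    letI : (f.fiber t).Over (Spec (CommRingCat.of ((Spec (CommRingCat.of A)).residueField t))) :=
      ⟨f.fiberToSpecResidueField t⟩
    exact isDualizingSheaf_of_iso ((Euler.tFUnitIso ωt).symm ≪≫
      Ample.LineData.tensorModMapIso (Iso.refl ωt) eP'.symm ≪≫ (OX.pullTensorIso ι L W).symm ≪≫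
      asIso ((Scheme.Modules.pullback ι).map ε)) h2
  · refine ⟨U₀, fun y hy => ⟨hinv y hy, hεb y hy⟩, ?_⟩
    haveI : IsIso ((Scheme.Modules.restrictFunctor U₀.ι).map ε) :=
      Ref1.isIso_restrict_of_bijective ε U₀ fun x hx => hx.2
    exact ⟨asIso ((Scheme.Modules.restrictFunctor U₀.ι).map ε)⟩

end GrothLib.ExtSplit20

end
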