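import Groth.Agent.Lib.ExtSplit20.Main28
import Groth.Agent.Lib.ArtCrit20.Crit

/-!
# Virtually ℚ-Gorenstein fibres
-/

set_option autoImplicit false
set_option linter.all false
set_option backward.isDefEq.respectTransparency false
set_option maxHeartbeats 1000000
set_option synthInstance.maxHeartbeats 200000

universe u

open CategoryTheory CategoryTheory.Limits AlgebraicGeometry TopologicalSpace Opposite IsLocalRing
attribute [local instance] HasDerivedCategory.standard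

noncomputable section

namespace GrothLib.ExtSplit20

open GrothLib.OX GrothLib.DualFree20 GrothLib.RightAdj22 GrothLib.ArtCrit20

/-- An isomorphism of restricted stalks gives one of the stalks. -/
theorem nonempty_stalk_of_restrict_stalk {X : Scheme.{u}} {M N : X.Modules} (V : X.Opens) (v : (V : Scheme.{u}))
    (e : (M.restrict V.ι).presheaf.stalk v ≃ₗ[(V : Scheme.{u}).presheaf.stalk v] (N.restrict V.ι).presheaf.stalk v) :
    Nonempty (M.presheaf.stalk (V.ι v) ≃ₗ[X.presheaf.stalk (V.ι v)] N.presheaf.stalk (V.ι v)) := by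
  obtain ⟨φ, hφ, h⟩ := exists_restrict_stalk' M V v
  obtain ⟨φ', hφ', h'⟩ := exists_restrict_stalk' N V v
  let a := (AddEquiv.ofBijective φ hφ).symm.trans (e.toAddEquiv.trans (AddEquiv.ofBijective φ' hφ'))
  refine ⟨{ a with map_smul' := fun r x => ?_ }⟩
  obtain ⟨w, rfl⟩ := hφ.2 x
  obtain ⟨c, hc⟩ := (ConcreteCategory.bijective_of_isIso (V.stalkIso v).hom).2 r
  obtain rfl : openStalkHom V v c = r := hc
  show a (openStalkHom V v c • φ w) = openStalkHom V v c • a (φ w)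
  rw [← h]
  show φ' (e ((AddEquiv.ofBijective φ hφ).symm (AddEquiv.ofBijective φ hφ (c • w)))) =
    openStalkHom V v c • φ' (e ((AddEquiv.ofBijective φ hφ).symm (AddEquiv.ofBijective φ hφ w)))
  rw [AddEquiv.symm_apply_apply, AddEquiv.symm_apply_apply, map_smul, h']

/-- A product with an invertible module has the same stalks. -/
theorem nonempty_stalk_tensor_inv {X : Scheme.{u}} (Λ M : X.Modules) (v : X) (h : RelCanon.InvertibleAt Λ v) :
    Nonempty ((CohB1.tensorMod Λ M).presheaf.stalk v ≃ₗ[X.presheaf.stalk v] M.presheaf.stalk v) := by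
  obtain ⟨τ⟩ := nonempty_stalk_equiv_of_invertibleAt h
  exact ⟨(Ref1.tensorStalk Λ M v) ≪≫ₗ TensorProduct.congr τ.symm (LinearEquiv.refl _ _) ≪≫ₗ TensorProduct.lid _ _⟩

variable {A : Type u} [CommRing A] [IsNoetherianRing A] {Y : Scheme.{u}} [Y.Over (Spec (CommRingCat.of A))]
  [IsProper (Y ↘ Spec (CommRingCat.of A))]

/-- **A fibre over which a virtual canonical sheaf exists is one of relative `(S₂)`.** -/
theorem virtual_data (d : ℕ) (hS : RelCanon.IsSkMor (Y ↘ Spec (CommRingCat.of A)) 2)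
    (hd : Cyc.HasRelDim (Y ↘ Spec (CommRingCat.of A)) d) (ω : Y.Modules) (hω : RelCanon.IsDualizingSheaf A Y d ω)
    (hG : ∀ y : Y, y ∉ RelCanon.gorLocus (Y ↘ Spec (CommRingCat.of A)) →
      (2 : WithBot ℕ∞) ≤ ringKrullDim (((Y ↘ Spec (CommRingCat.of A)).fiber
        ((Y ↘ Spec (CommRingCat.of A)) y)).presheaf.stalk ((Y ↘ Spec (CommRingCat.of A)).asFiber y)))
    (t : ↥(Spec (CommRingCat.of A))) (L : Y.Modules) (hL : Coh.IsCoh L)
    (hL2 : ∀ m : ℤ, RelCanon.RelSk (Y ↘ Spec (CommRingCat.of A)) 2 (RelCanon.refPowZ L m))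
    (hLt : RelCanon.IsDualizingSheafFib (Y ↘ Spec (CommRingCat.of A)) d L t)
    (hLf : FlatMod.IsFlatOver (Y ↘ Spec (CommRingCat.of A)) L) (r : ℕ)
    (hinv : ∀ y : Y, (Y ↘ Spec (CommRingCat.of A)) y = t → RelCanon.InvertibleAt (RelCanon.refPowZ ω r) y) :
    ∀ y : Y, (Y ↘ Spec (CommRingCat.of A)) y = t → RelCanon.InvertibleAt (RelCanon.refPowZ L r) y := by
  let f := Y ↘ Spec (CommRingCat.of A)
  haveI : Flat f := hS.1
  haveI : LocallyOfFiniteType f := hS.2.1
  haveI : LocallyOfFinitePresentation f := GrothLib.LocProp.locallyOfFinitePresentation_of_isLocallyNoetherian f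
  haveI : IsLocallyNoetherian Y := LocallyOfFiniteType.isLocallyNoetherian f
  haveI : LocallyOfFiniteType (f.fiberToSpecResidueField t) :=
    MorphismProperty.pullback_snd _ _ (inferInstance : LocallyOfFiniteType f)
  let Yt := f.fiber t
  haveI : IsLocallyNoetherian Yt := LocallyOfFiniteType.isLocallyNoetherian (f.fiberToSpecResidueField t)
  let ι := f.fiberι t
  haveI : IsIso (Spec.map (CommRingCat.ofHom (RingHom.id A))) := by rw [CommRingCat.ofHom_id, Spec.map_id]; infer_instance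
  obtain ⟨hωc, -, U, hbU, hUg⟩ := exists_bcOn_gor d hS hd ω hω A (RingHom.id A) Y (𝟙 Y)
    (IsPullback.of_horiz_isIso ⟨by simp⟩) ω hω
  let ωt := (Scheme.Modules.pullback ι).obj L
  obtain ⟨hωtc, -, -, -, -⟩ := fibre_data d hS hd t ωt hLt
  have hmem : ∀ z : Yt, f (ι z) = t := fun z =>
    (f.range_fiberι t ▸ Set.mem_range_self z : f.fiberι t z ∈ f ⁻¹' {t})
  let U' : Y.Opens := ⟨{x : Y | RelCanon.InvertibleAt L x}, isOpen_invertibleAt L⟩
  have hU' : PicF.IsInvertible (L.restrict U'.ι) := isInvertible_restrict_of_invertibleAt U' fun x hx => hx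
  let V₀ : Yt.Opens := ι ⁻¹ᵁ U'
  have hdim : ∀ z : Yt, z ∉ V₀ → (2 : WithBot ℕ∞) ≤ ringKrullDim (Yt.presheaf.stalk z) := by
    intro z hz
    rw [dim_fibre_point f t z]
    by_cases hcm : MoreMor.IsCMAt f (ι z)
    · refine hG (ι z) fun hg => hz ?_
      obtain ⟨e⟩ := nonempty_stalk_iso d hS hd ω hω L hL t hLt z (hLf _) hcm
      obtain ⟨τ⟩ := nonempty_stalk_equiv_of_invertibleAt (invertibleAt_of_restrict U hbU.1 (ι z) (hUg _ hg))
      exact invertibleAt_of_stalk hL (ι z) (e.trans τ.symm)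
    · exact two_le_dim_of_not_cm f hS (ι z) hcm
  obtain ⟨pr⟩ := AlmostAmple24.nonempty_pullback_restrict ι U' L
  have hbc : BCOn ι U' L ωt := ⟨hU', ⟨pr⟩⟩
  let m : ℤ := (r : ℤ)
  let P := (Scheme.Modules.pullback ι).obj (RelCanon.refPowZ L m)
  let Q := RelCanon.refPowZ ωt m
  have hPc : Coh.IsCoh P := ModDesc.isCoh_pullback ι _ (isCoh_refPowZ hL m)
  have hQc : Coh.IsCoh Q := isCoh_refPowZ hωtc m
  have hbm : BCOn ι U' (RelCanon.refPowZ L m) Q := hbc.refPowZ hL hωtc m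
  obtain ⟨ePQ⟩ := hbm.pullback_iso
  have hsk : RelCanon.HasSk 2 P := by
    intro z
    have key : ∀ (x : Y) (t : ↥(Spec (CommRingCat.of A))) (w : f.fiber t), f.fiberι t w = x →
        RelCanon.SkAt 2 ((Scheme.Modules.pullback (f.fiberι t)).obj (RelCanon.refPowZ L m)) w := by
      intro x t w hx
      have ht : f x = t := by rw [← hx]; exact GrothLib.DimCut.apply_fiberι f t w
      subst ht
      rw [GrothLib.DimCut.eq_asFiber f x w hx]
      exact (hL2 m x).2
    exact key _ t z rfl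
  have hgen : ∀ w : Yt, ringKrullDim (Yt.presheaf.stalk w) = 0 → Nontrivial (P.presheaf.stalk w) := fun w hw => by
    have hwV : w ∈ V₀ := by
      by_contra hn
      have := hdim w hn
      rw [hw] at this
      exact absurd this (not_le.2 (WithBot.coe_lt_coe.2 (by norm_num : (0 : ℕ∞) < 2)))
    obtain ⟨τ⟩ := nonempty_stalk_equiv_of_invertibleAt (invertibleAt_pullback ι (M := RelCanon.refPowZ L m) w
      (invertibleAt_of_restrict U' hbm.1 (ι w) hwV))
    exact τ.toEquiv.symm.nontrivial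
  have dP : ∀ z, z ∉ V₀ → (2 : ℕ∞) ≤ LocCoh.depth (Yt.presheaf.stalk z) (P.presheaf.stalk z) := fun z hz => by
    refine le_idealDepth_stalk hPc 2 hsk z (maximalIdeal (Yt.presheaf.stalk z)) (fun q hq => ?_) hgen
    obtain rfl : q = closedPoint (Yt.presheaf.stalk z) :=
      PrimeSpectrum.ext ((maximalIdeal.isMaximal _).eq_of_le q.2.ne_top hq).symm
    show ((2 : ℕ) : WithBot ℕ∞) ≤ ringKrullDim (Yt.presheaf.stalk (Yt.fromSpecStalk z (closedPoint _)))
    rw [Scheme.fromSpecStalk_closedPoint]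
    exact_mod_cast hdim z hz
  have dQ : ∀ z, z ∉ V₀ → (2 : ℕ∞) ≤ LocCoh.depth (Yt.presheaf.stalk z) (Q.presheaf.stalk z) := fun z hz => by
    obtain ⟨H, hH, e⟩ := exists_ddual_refPowZ hωtc m
    show (2 : ℕ∞) ≤ LocCoh.depth (Yt.presheaf.stalk z) ((RelCanon.refPowZ ωt m).presheaf.stalk z)
    rw [e]
    exact two_le_depth_ddual hH z (two_le_depth_fibre_ring f hS t z (hdim z hz))
  obtain ⟨eF⟩ := nonempty_iso_of_restrict hPc hQc V₀ dP dQ ePQ
  intro y hy
  subst hy
  let κ := (Spec (CommRingCat.of A)).residueField (f y)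
  letI : (f.fiber (f y)).Over (Spec (CommRingCat.of κ)) := ⟨f.fiberToSpecResidueField (f y)⟩
  let φ : CommRingCat.of A ⟶ κ := Spec.preimage ((Spec (CommRingCat.of A)).fromSpecResidueField (f y))
  have hsq : IsPullback (f.fiberι (f y)) ((f.fiber (f y)) ↘ Spec (CommRingCat.of κ)) f
      (Spec.map (CommRingCat.ofHom φ.hom)) := by
    change IsPullback (f.fiberι (f y)) (f.fiberToSpecResidueField (f y)) f (Spec.map φ)
    rw [Spec.map_preimage]
    exact IsPullback.of_hasPullback _ _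
  obtain ⟨⟨eb⟩, -⟩ := refPowZ_baseChange d hS hd ω hω hG κ φ.hom (f.fiber (f y)) (f.fiberι (f y)) hsq ωt hLt m
  let z := f.asFiber y
  have hz : f.fiberι (f y) z = y := f.fiberι_asFiber y
  have h1 : RelCanon.InvertibleAt (RefHull.ddual ((Scheme.Modules.pullback ι).obj (RelCanon.refPowZ ω m))) z :=
    invertibleAt_ddual_pullback ι z (by show RelCanon.InvertibleAt _ (f.fiberι (f y) z); rw [hz]; exact hinv y rfl)
  have h2 : RelCanon.InvertibleAt P z := invertibleAt_of_iso eF (invertibleAt_of_iso eb.symm h1)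
  have h3 := invertibleAt_of_fibre f (isCoh_refPowZ hL m) (f y) z ((hL2 m _).1) h2
  rwa [hz] at h3

/-- **Relative `(S₂)` of the reflexive powers along such a fibre.** -/
theorem relSkAt_refPowZ_virtual (d : ℕ) (hS : RelCanon.IsSkMor (Y ↘ Spec (CommRingCat.of A)) 2)
    (hd : Cyc.HasRelDim (Y ↘ Spec (CommRingCat.of A)) d) (ω : Y.Modules) (hω : RelCanon.IsDualizingSheaf A Y d ω)
    (hG : ∀ y : Y, y ∉ RelCanon.gorLocus (Y ↘ Spec (CommRingCat.of A)) →
      (2 : WithBot ℕ∞) ≤ ringKrullDim (((Y ↘ Spec (CommRingCat.of A)).fiber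
        ((Y ↘ Spec (CommRingCat.of A)) y)).presheaf.stalk ((Y ↘ Spec (CommRingCat.of A)).asFiber y)))
    (t : ↥(Spec (CommRingCat.of A))) (L : Y.Modules) (hL : Coh.IsCoh L) (hLr : RefHull.IsReflexive L)
    (hL2 : ∀ m : ℤ, RelCanon.RelSk (Y ↘ Spec (CommRingCat.of A)) 2 (RelCanon.refPowZ L m))
    (hLt : RelCanon.IsDualizingSheafFib (Y ↘ Spec (CommRingCat.of A)) d L t)
    (hab : (∀ y : Y, (Y ↘ Spec (CommRingCat.of A)) y = t →
        RelCanon.SkAt 3 (Coh.structureModule ((Y ↘ Spec (CommRingCat.of A)).fiber ((Y ↘ Spec (CommRingCat.of A)) y)))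
          ((Y ↘ Spec (CommRingCat.of A)).asFiber y)) ∨
      (∃ r : ℕ, 0 < r ∧ (r : (Spec (CommRingCat.of A)).residueField t) ≠ 0 ∧
        ∀ y : Y, (Y ↘ Spec (CommRingCat.of A)) y = t → RelCanon.InvertibleAt (RelCanon.refPowZ ω r) y))
    (m : ℤ) (y : Y) (hy : (Y ↘ Spec (CommRingCat.of A)) y = t) :
    RelCanon.RelSkAt (Y ↘ Spec (CommRingCat.of A)) 2 (RelCanon.refPowZ ω m) y := by
  let f := Y ↘ Spec (CommRingCat.of A)
  haveI : Flat f := hS.1
  haveI : LocallyOfFiniteType f := hS.2.1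
  haveI : LocallyOfFinitePresentation f := GrothLib.LocProp.locallyOfFinitePresentation_of_isLocallyNoetherian f
  haveI : IsLocallyNoetherian Y := LocallyOfFiniteType.isLocallyNoetherian f
  obtain ⟨hωc, -⟩ := exists_chart_ext d hS hd ω hω
  haveI : IsIso (RefHull.bidualMap L) := hLr
  have e1 : Nonempty (RelCanon.refPowZ L ((1 : ℕ) : ℤ) ≅ L) := by
    obtain ⟨c⟩ := nonempty_ddual_congr (OX.tensorUnitLeftIso L) (isCoh_tensorPow' hL 1)
    exact ⟨c ≪≫ (asIso (RefHull.bidualMap L)).symm⟩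
  obtain ⟨e1⟩ := e1
  have hLf : FlatMod.IsFlatOver f L := isFlatOver_of_iso e1 fun x => (hL2 _ x).1
  have h3 : (∀ y : Y, f y = t →
      RelCanon.SkAt 3 (Coh.structureModule (f.fiber (f y))) (f.asFiber y)) ∨
    (∃ r : ℕ, 0 < r ∧ (r : (Spec (CommRingCat.of A)).residueField t) ≠ 0 ∧
      ∀ y : Y, f y = t →
        RelCanon.InvertibleAt (RelCanon.refPowZ L r) y ∧ RelCanon.InvertibleAt (RelCanon.refPowZ ω r) y) := by
    rcases hab with h | ⟨r, hr, hrk, h⟩
    · exact Or.inl h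
    · exact Or.inr ⟨r, hr, hrk, fun x hx =>
        ⟨virtual_data d hS hd ω hω hG t L hL hL2 hLt hLf r h x hx, h x hx⟩⟩
  obtain ⟨hWi, -, -, V, hV, ⟨eV⟩⟩ := lift_data d hS hd ω hω L hL hLf t hLt h3
  let W := RefHull.homSh L ω
  let T : Y.Opens := V ⊓ ⟨{x : Y | RelCanon.InvertibleAt W x}, isOpen_invertibleAt W⟩
  have hyT : y ∈ T := ⟨hV y hy, (hWi y hy).1⟩
  have hTW : PicF.IsInvertible (W.restrict T.ι) := isInvertible_restrict_of_invertibleAt T fun x hx => hx.2
  haveI : IsLocallyNoetherian (T : Scheme.{u}) := LocallyOfFiniteType.isLocallyNoetherian T.ι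
  let res := Scheme.Modules.restrictFunctor (Y.homOfLE (inf_le_left : T ≤ V))
  let cT : ∀ M : Y.Modules, M.restrict T.ι ≅ (res.obj (M.restrict V.ι)) := fun M =>
    (Scheme.Modules.restrictFunctorCongr (Scheme.homOfLE_ι Y (inf_le_left : T ≤ V)).symm).app M ≪≫
      (Scheme.Modules.restrictFunctorComp (Y.homOfLE (inf_le_left : T ≤ V)) V.ι).app M
  let eG : ω.restrict T.ι ≅ CohB1.tensorMod (L.restrict T.ι) (W.restrict T.ι) :=
    cT ω ≪≫ res.mapIso eV.symm ≪≫ (cT (CohB1.tensorMod L W)).symm ≪≫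
      (Scheme.Modules.restrictFunctorIsoPullback T.ι).app _ ≪≫ OX.pullTensorIso T.ι L W ≪≫
      Ample.LineData.tensorModMapIso ((Scheme.Modules.restrictFunctorIsoPullback T.ι).app L).symm
        ((Scheme.Modules.restrictFunctorIsoPullback T.ι).app W).symm
  have key : ∀ (G' L' W' : Y.Modules), Coh.IsCoh G' → Coh.IsCoh L' → PicF.IsInvertible (W'.restrict T.ι) →
      Nonempty (G'.restrict T.ι ≅ CohB1.tensorMod (L'.restrict T.ι) (W'.restrict T.ι)) → ∀ n : ℕ,
      Nonempty ((RelCanon.refPowZ L' (n : ℤ)).presheaf.stalk y ≃ₗ[Y.presheaf.stalk y]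
        (RelCanon.refPowZ G' (n : ℤ)).presheaf.stalk y) := by
    intro G' L' W' hG' hL' hW' ⟨e⟩ n
    obtain ⟨E⟩ := nonempty_refPow_mul_restrict hL' hG' T hW' e n
    obtain ⟨s⟩ := nonempty_stalk_tensor_inv (CohB1.tensorPow (W'.restrict T.ι) n)
      ((RelCanon.refPowZ L' (n : ℤ)).restrict T.ι) (⟨y, hyT⟩ : (T : Scheme.{u}))
      (invertibleAt_of_restrict ⊤ (ParaPair.isInvertible_of_iso
        ((Scheme.Modules.restrictFunctorIsoPullback _).app _)
        (RelProjK.isInvertible_pullback _ (PerfLim10.isInvertible_tensorPow hW' n))) _ trivial)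
    exact nonempty_stalk_of_restrict_stalk T ⟨y, hyT⟩
      (((stalkIso E (⟨y, hyT⟩ : (T : Scheme.{u}))).trans s).symm)
  have fin : ∀ (m : ℤ), ((RelCanon.refPowZ L m).presheaf.stalk y ≃ₗ[Y.presheaf.stalk y]
      (RelCanon.refPowZ ω m).presheaf.stalk y) → RelCanon.RelSkAt f 2 (RelCanon.refPowZ ω m) y := fun m e => by
    haveI : Module.Finite (Y.presheaf.stalk y) ((RelCanon.refPowZ L m).presheaf.stalk y) :=
      QuasiFlat.finite_stalk _ (isCoh_refPowZ hL m) y
    haveI : Module.Finite (Y.presheaf.stalk y) ((RelCanon.refPowZ ω m).presheaf.stalk y) :=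
      QuasiFlat.finite_stalk _ (isCoh_refPowZ hωc m) y
    exact (relSkAt_iff_good f (isCoh_refPowZ hωc m) 2 y).2
      (((relSkAt_iff_good f (isCoh_refPowZ hL m) 2 y).1 (hL2 m y)).congr
        (RingEquiv.refl _) (RingEquiv.refl _) (fun _ => rfl) e.toAddEquiv (fun r v => map_smul e r v))
  cases m with
  | ofNat n =>
    obtain ⟨e⟩ := key ω L W hωc hL hTW ⟨eG⟩ n
    exact fin _ e
  | negSucc n =>
    obtain ⟨a⟩ := nonempty_dual_restrict_coh hωc T
    obtain ⟨b⟩ := nonempty_dual_congr eG (Cohom.isCoh_restrict _ hωc T.ι)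
    obtain ⟨c⟩ := nonempty_dual_tensor_coh (Cohom.isCoh_restrict _ hL T.ι)
      (LocFreeHom.isFinLocFree_of_isInvertible hTW)
    obtain ⟨l⟩ := nonempty_dual_restrict_coh hL T
    have hWc : Coh.IsCoh W := HomSh.isCoh_homSh (HomSh.hasRel_of_isCoh hL) hωc
    obtain ⟨w⟩ := nonempty_dual_restrict_coh hWc T
    obtain ⟨e⟩ := key (RefHull.dual ω) (RefHull.dual L) (RefHull.dual W) (isCoh_dual' hωc) (isCoh_dual' hL)
      (ParaPair.isInvertible_of_iso w (isInvertible_dual_of hTW))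
      ⟨a ≪≫ b ≪≫ c ≪≫ Ample.LineData.tensorModMapIso l.symm w.symm⟩ (n + 1)
    exact fin (Int.negSucc n) e

end GrothLib.ExtSplit20

end
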