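import Groth.Agent.Lib.ExtSplit20.FibData
import Groth.Agent.Lib.ArtCrit20.S3Invert
import Groth.Agent.Lib.ArtCrit20.RootGeneral
import Groth.Agent.Lib.HomSh.Criterion
import Groth.Agent.Lib.Ref1.Powers

/-!
# Tools for flat lifts of the canonical sheaf of a fibre
-/

set_option autoImplicit false
set_option linter.all false
set_option backward.isDefEq.respectTransparency false
set_option maxHeartbeats 2000000
set_option synthInstance.maxHeartbeats 200000

universe u

open CategoryTheory CategoryTheory.Limits AlgebraicGeometry TopologicalSpace Opposite IsLocalRing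
attribute [local instance] HasDerivedCategory.standard

noncomputable section

namespace GrothLib.ExtSplit20

open GrothLib.OX GrothLib.DualFree20 GrothLib.RightAdj22 GrothLib.ArtCrit20

theorem stalkLin_comp {X : Scheme.{u}} {M N P : X.Modules} (f : M ⟶ N) (g : N ⟶ P) (x : X) (v : M.presheaf.stalk x) :
    QCoh.stalkLin (f ≫ g) x v = QCoh.stalkLin g x (QCoh.stalkLin f x v) := by
  obtain ⟨W, hxW, s, rfl⟩ := TopCat.Presheaf.exists_germ_eq M.presheaf v
  rw [QCoh.stalkLin_germ, QCoh.stalkLin_germ, QCoh.stalkLin_germ]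
  rfl

theorem stalkLin_bijective_comp {X : Scheme.{u}} {M N P : X.Modules} (f : M ⟶ N) (g : N ⟶ P) (x : X)
    (hf : Function.Bijective (QCoh.stalkLin f x)) (hg : Function.Bijective (QCoh.stalkLin g x)) :
    Function.Bijective (QCoh.stalkLin (f ≫ g) x) := by
  rw [show ⇑(QCoh.stalkLin (f ≫ g) x) = ⇑(QCoh.stalkLin g x) ∘ ⇑(QCoh.stalkLin f x) from
    funext (stalkLin_comp f g x)]
  exact hg.comp hf

theorem stalkLin_bijective_iso {X : Scheme.{u}} {M N : X.Modules} (e : M ≅ N) (x : X) :
    Function.Bijective (QCoh.stalkLin e.hom x) :=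
  ConcreteCategory.bijective_of_isIso ((OX.stalk x).map e.hom)

/-- Inverse images of maps bijective at a point are bijective above it. -/
theorem stalkLin_bijective_pullback {X Z : Scheme.{u}} (g : Z ⟶ X) {M N : X.Modules} (φ : M ⟶ N) (z : Z)
    (h : Function.Bijective (QCoh.stalkLin φ (g z))) :
    Function.Bijective (QCoh.stalkLin ((Scheme.Modules.pullback g).map φ) z) := by
  haveI : IsIso ((OX.stalk (g z)).map φ) := (ConcreteCategory.isIso_iff_bijective _).2 h
  let N' := OX.pullStalkIso g z
  haveI : IsIso ((Scheme.Modules.pullback g ⋙ OX.stalk z).map φ) := by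
    haveI : IsIso ((OX.stalk (g z) ⋙ ModuleCat.extendScalars (g.stalkMap z).hom).map φ) := by
      rw [Functor.comp_map]; infer_instance
    rw [NatIso.isIso_map_iff N']
    infer_instance
  exact ConcreteCategory.bijective_of_isIso ((Scheme.Modules.pullback g ⋙ OX.stalk z).map φ)

/-- The depth of a fibre's local ring where it has dimension two. -/
theorem two_le_depth_fibre_ring {X S : Scheme.{u}} [IsLocallyNoetherian X] [IsLocallyNoetherian S] (f : X ⟶ S) (hS : RelCanon.IsSkMor f 2) (t : S) (z : f.fiber t)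
    (hz : (2 : WithBot ℕ∞) ≤ ringKrullDim ((f.fiber t).presheaf.stalk z)) :
    (2 : ℕ∞) ≤ LocCoh.depth ((f.fiber t).presheaf.stalk z) ((f.fiber t).presheaf.stalk z) := by
  haveI : IsNoetherianRing ((f.fiber t).presheaf.stalk z) :=
    haveI : LocallyOfFiniteType f := hS.2.1
    GrothLib.DimCut.isNoetherianRing_stalk_fiber f _ _
  have key : ∀ (x : X) (t : S) (z : f.fiber t), f.fiberι t z = x →
      RelCanon.SkAt 2 (Coh.structureModule (f.fiber t)) z := by
    intro x t w hx
    have ht : f x = t := by rw [← hx]; exact GrothLib.DimCut.apply_fiberι f t w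
    subst ht
    rw [GrothLib.DimCut.eq_asFiber f x w hx]
    exact hS.2.2 x
  haveI : Module.Finite ((f.fiber t).presheaf.stalk z) ((Coh.structureModule (f.fiber t)).presheaf.stalk z) :=
    Module.Finite.equiv (HomSh.unitStalk (X := f.fiber t) z)
  have hb : GrothLib.SyntLoc.SkBound 2 ((f.fiber t).presheaf.stalk z) := GrothLib.SyntLoc.skBound_of_hasSk
    (GrothLib.SkExt.hasSk_congr (HomSh.unitStalk (X := f.fiber t) z).symm (key _ t z rfl))
  unfold GrothLib.SyntLoc.SkBound at hb
  rw [min_eq_left (by exact_mod_cast hz)] at hb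
  exact WithBot.coe_le_coe.1 hb

/-- A pairing into the canonical sheaf whose endomorphisms are scalars trivialises an invertible module. -/
theorem exists_trivialisation {Z : Scheme.{u}} [IsLocallyNoetherian Z] {ωt P : Z.Modules} (hωt : Coh.IsCoh ωt)
    (eEnd : RefHull.homSh ωt ωt ≅ Coh.structureModule Z) (h : CohB1.tensorMod ωt P ⟶ ωt) :
    ∃ ψ : P ⟶ Coh.structureModule Z, ∀ z, RelCanon.InvertibleAt P z → Function.Bijective (QCoh.stalkLin h z) →
      Function.Bijective (QCoh.stalkLin ψ z) := by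
  obtain ⟨ψ, hψ⟩ := LM28.exists_transpose ωt ωt h
  refine ⟨ψ ≫ eEnd.hom, fun z hP hb => stalkLin_bijective_comp _ _ z ?_ (stalkLin_bijective_iso eEnd z)⟩
  let Q := Z.presheaf.stalk z
  let N := ωt.presheaf.stalk z
  have hlsmul : Function.Bijective (LinearMap.lsmul Q N) :=
    bijective_lsmul_of_equiv ((LinearEquiv.ofBijective (RefHull.evalStalk ωt ωt z)
      ((HomSh.hasRel_of_isCoh hωt).evalStalk_bijective ωt z)).symm ≪≫ₗ stalkIso eEnd z ≪≫ₗ (HomSh.unitStalk z).symm)
  obtain ⟨τ⟩ := nonempty_stalk_equiv_of_invertibleAt hP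
  let T : N ≃ₗ[Q] (CohB1.tensorMod ωt P).presheaf.stalk z :=
    (TensorProduct.rid Q _).symm ≪≫ₗ TensorProduct.congr (LinearEquiv.refl Q _) τ ≪≫ₗ (Ref1.tensorStalk ωt P z).symm
  let φ : N ≃ₗ[Q] N := T.trans (LinearEquiv.ofBijective (QCoh.stalkLin h z) hb)
  let E := LinearEquiv.ofBijective (RefHull.evalStalk ωt ωt z) ((HomSh.hasRel_of_isCoh hωt).evalStalk_bijective ωt z)
  have key : ∀ (w : P.presheaf.stalk z) (v : N),
      E (QCoh.stalkLin ψ z w) v = QCoh.stalkLin h z (Ref1.tmulStalk ωt P z v w) := by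
    intro w v
    obtain ⟨U, hzU, p, rfl⟩ := TopCat.Presheaf.exists_germ_eq P.presheaf w
    rw [QCoh.stalkLin_germ]
    exact (LinearMap.congr_fun (RefHull.evalStalk_germ ωt ωt z hzU _) v).trans (hψ U p z hzU v)
  have hq : ∀ q : Q, E (QCoh.stalkLin ψ z (τ q)) = (LinearMap.lsmul Q N q).comp φ.toLinearMap := by
    intro q
    refine LinearMap.ext fun v => ?_
    rw [key, show τ q = q • τ 1 by rw [← map_smul, smul_eq_mul, mul_one], map_smul, map_smul]
    show q • QCoh.stalkLin h z (Ref1.tmulStalk ωt P z v (τ 1)) = q • φ v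
    exact congrArg (fun m : N => q • m) (congrArg (QCoh.stalkLin h z) (by rfl : Ref1.tmulStalk ωt P z v (τ 1) = T v))
  have hcomp : Function.Bijective fun q : Q => E (QCoh.stalkLin ψ z (τ q)) := by
    have h1 : (fun q : Q => E (QCoh.stalkLin ψ z (τ q))) =
        (fun a : N →ₗ[Q] N => a.comp φ.toLinearMap) ∘ ⇑(LinearMap.lsmul Q N) := funext hq
    rw [h1]
    exact Function.Bijective.comp ⟨fun a b hab => LinearMap.ext fun v => by
      have := LinearMap.congr_fun hab (φ.symm v)
      simpa using this, fun b => ⟨b.comp φ.symm.toLinearMap, LinearMap.ext fun v => congrArg b (φ.symm_apply_apply v)⟩⟩ hlsmul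
  refine ⟨fun a b hab => ?_, fun y => ?_⟩
  · obtain ⟨a, rfl⟩ := τ.surjective a
    obtain ⟨b, rfl⟩ := τ.surjective b
    exact congrArg τ (hcomp.1 (congrArg E hab))
  · obtain ⟨q, hq'⟩ := hcomp.2 (E y)
    exact ⟨τ q, E.injective hq'⟩

/-- A module isomorphic to its double dual is reflexive. -/
theorem isReflexive_of_equiv_ddual {C : Type u} [CommRing C] [IsNoetherianRing C] {M : Type u} [AddCommGroup M]
    [Module C M] [Module.Finite C M] (e : M ≃ₗ[C] Module.Dual C (Module.Dual C M)) : Module.IsReflexive C M := by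
  let D := Module.Dual C M
  let DD := Module.Dual C D
  haveI : Module.Finite C DD := Module.Finite.equiv e
  haveI : IsNoetherian C DD := isNoetherian_of_isNoetherianRing_of_finite C DD
  let ev : DD →ₗ[C] Module.Dual C (Module.Dual C DD) := Module.Dual.eval C DD
  let r : Module.Dual C (Module.Dual C DD) →ₗ[C] DD := (Module.Dual.eval C D).dualMap
  have hr : Function.LeftInverse r ev := fun φ => rfl
  let g : DD ≃ₗ[C] Module.Dual C (Module.Dual C DD) := e.dualMap.dualMap
  have hinj : Function.Injective (r.comp g.toLinearMap) :=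
    IsNoetherian.injective_of_surjective_endomorphism _ (hr.surjective.comp g.surjective)
  have hr' : Function.Injective r := fun a b hab => by
    obtain ⟨a, rfl⟩ := g.surjective a
    obtain ⟨b, rfl⟩ := g.surjective b
    exact congrArg g (hinj hab)
  haveI : Module.IsReflexive C DD := ⟨⟨hr.injective, fun ξ => ⟨r ξ, hr' (hr (r ξ))⟩⟩⟩
  exact Module.equiv e.symm

end GrothLib.ExtSplit20

end
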